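import Cfsg.Agent.Lib.TwoClassSizes.Basic
import Cfsg.Agent.S0033
import Mathlib.GroupTheory.SchurZassenhaus
import Mathlib.GroupTheory.Frattini

/-!
# Camina pairs

If every coset `gN` outside the normal subgroup `N` lies in one conjugacy class then the action is
fixed-point-free, or `N` or `G/N` has prime-power order.
-/

set_option autoImplicit false
set_option linter.style.haveILetI false
set_option linter.unusedSectionVars false

namespace CfsgLib.CaminaPair

open Subgroup CfsgLib.ClassSize CfsgLib.ClassSize.Nilp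
open CfsgLib.TwoClassSizes (C mem_C mem_C_symm conj_eq_of_mem_C mem_C_of_conj_eq)

universe u

/-- Every coset outside `N` lies in a single class. -/
def IsPair {G : Type u} [Group G] (N : Subgroup G) : Prop :=
  ∀ g : G, g ∉ N → ∀ n ∈ N, IsConj g (g * n)

/-- Counting the preimage of a set under a surjective homomorphism. -/
theorem card_preimage {A B : Type*} [Group A] [Group B] (f : A →* B) (hf : Function.Surjective f) (T : Set B) :
    Nat.card {a : A // f a ∈ T} = Nat.card f.ker * Nat.card T := by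
  rw [← Nat.card_prod]
  refine Nat.card_congr
    { toFun := fun a => ⟨⟨(Function.surjInv hf (f a))⁻¹ * a, ?_⟩, ⟨f a, a.2⟩⟩
      invFun := fun t => ⟨Function.surjInv hf t.2 * (t.1 : A), ?_⟩
      left_inv := fun a => Subtype.ext (mul_inv_cancel_left _ _)
      right_inv := fun t => ?_ }
  · rw [MonoidHom.mem_ker, map_mul, map_inv, Function.surjInv_eq hf, inv_mul_cancel]
  · rw [map_mul, MonoidHom.mem_ker.1 t.1.2, mul_one, Function.surjInv_eq hf]
    exact t.2.2
  · obtain ⟨⟨w, hw⟩, ⟨b, hb⟩⟩ := t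
    have hfb : f (Function.surjInv hf b * w) = b := by
      rw [map_mul, MonoidHom.mem_ker.1 hw, mul_one, Function.surjInv_eq hf]
    refine Prod.ext (Subtype.ext ?_) (Subtype.ext hfb)
    show (Function.surjInv hf (f (Function.surjInv hf b * w)))⁻¹ * (Function.surjInv hf b * w) = w
    rw [hfb, inv_mul_cancel_left]

variable {G : Type u} [Group G] [Finite G] {N : Subgroup G} [N.Normal]

theorem IsPair.isConj_iff_mk (h : IsPair N) {g : G} (hg : g ∉ N) (y : G) :
    IsConj g y ↔ IsConj (QuotientGroup.mk' N g) (QuotientGroup.mk' N y) := by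
  constructor
  · intro hy
    obtain ⟨c, rfl⟩ := isConj_iff.1 hy
    exact isConj_iff.2 ⟨QuotientGroup.mk' N c, by rw [map_mul, map_mul, map_inv]⟩
  · intro hy
    obtain ⟨c, hc⟩ := isConj_iff.1 hy
    obtain ⟨c, rfl⟩ := QuotientGroup.mk'_surjective N c
    rw [← map_inv, ← map_mul, ← map_mul] at hc
    obtain ⟨w, hw, hwy⟩ := (QuotientGroup.mk'_eq_mk' N).1 hc
    have h1 : c * g * c⁻¹ ∉ N := fun h' => hg (by
      have := (inferInstance : N.Normal).conj_mem' _ h' c
      rwa [show c⁻¹ * (c * g * c⁻¹) * c = g by group] at this)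
    exact (isConj_iff.2 ⟨c, rfl⟩).trans (hwy ▸ h _ h1 w hw)

theorem card_isConj {K : Type*} [Group K] (g : K) : Nat.card {y : K // IsConj g y} = cs g := by
  rw [show cs g = _ from (ncard_setOf_isConj g).symm, ← Nat.card_coe_set_eq]
  rfl

theorem IsPair.cs_eq (h : IsPair N) {g : G} (hg : g ∉ N) :
    cs g = Nat.card N * cs (QuotientGroup.mk' N g) := by
  have h1 := card_preimage (QuotientGroup.mk' N) (QuotientGroup.mk'_surjective N)
    {y | IsConj (QuotientGroup.mk' N g) y}
  rw [QuotientGroup.ker_mk', Nat.card_coe_set_eq, ncard_setOf_isConj] at h1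
  rw [← card_isConj, ← show _ = Nat.card N * cs (QuotientGroup.mk' N g) from h1]
  exact Nat.card_congr (Equiv.subtypeEquivRight fun y => h.isConj_iff_mk hg y)

theorem IsPair.card_C (h : IsPair N) {g : G} (hg : g ∉ N) :
    Nat.card (C g) = Nat.card (C (QuotientGroup.mk' N g)) := by
  have h1 := (C g).card_mul_index
  rw [show (C g).index = _ from h.cs_eq hg, Subgroup.card_eq_card_quotient_mul_card_subgroup N,
    ← (C (QuotientGroup.mk' N g)).card_mul_index] at h1
  refine Nat.eq_of_mul_eq_mul_right (m := Nat.card N * cs (QuotientGroup.mk' N g))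
    (Nat.mul_pos Nat.card_pos (Nat.pos_of_ne_zero (cs_ne_zero _))) ?_
  rw [h1]
  show _ * (C (QuotientGroup.mk' N g)).index * Nat.card N = _ * (Nat.card N * (C (QuotientGroup.mk' N g)).index)
  ring

theorem IsPair.card_C_dvd_index (h : IsPair N) {g : G} (hg : g ∉ N) : Nat.card (C g) ∣ N.index := by
  rw [h.card_C hg, Subgroup.index_eq_card]
  exact Subgroup.card_subgroup_dvd_card _

/-- Coprime pairs act fixed-point-freely. -/
theorem IsPair.fpf_of_coprime (h : IsPair N) (hcop : (Nat.card N).Coprime N.index) :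
    ∀ x ∈ N, x ≠ 1 → C x ≤ N := by
  intro x hx hx1 g hg
  by_contra hgN
  refine hx1 (orderOf_eq_one_iff.1 (Nat.eq_one_of_dvd_coprimes hcop (Subgroup.orderOf_dvd_natCard N hx) ?_))
  exact (Subgroup.orderOf_dvd_natCard (C g) (mem_C_symm.1 hg)).trans (h.card_C_dvd_index hgN)

/-- A supplement inherits the property and contains the centralisers. -/
theorem IsPair.supplement (h : IsPair N) (M : Subgroup G) (hM : N ⊔ M = ⊤) :
    IsPair (N.subgroupOf M) ∧ ∀ g ∈ M, g ∉ N → C g ≤ M := by
  classical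
  have hf : Function.Surjective ((QuotientGroup.mk' N).comp M.subtype) := by
    intro q
    obtain ⟨g, rfl⟩ := QuotientGroup.mk'_surjective N q
    obtain ⟨a, ha, b, hb, rfl⟩ := mem_sup_of_normal_left.1 (show g ∈ N ⊔ M by rw [hM]; exact mem_top g)
    exact ⟨⟨b, hb⟩, by simp [(QuotientGroup.eq_one_iff a).2 ha]⟩
  set f := (QuotientGroup.mk' N).comp M.subtype with hfdef
  have hker : f.ker = N.subgroupOf M := by
    ext a
    rw [MonoidHom.mem_ker, mem_subgroupOf]
    exact QuotientGroup.eq_one_iff (a : G)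
  have key : ∀ g : M, (g : G) ∉ N → (∀ y : M, IsConj (g : G) (y : G) → IsConj g y) ∧ C (g : G) ≤ M := by
    intro g hg
    have hcount : Nat.card {y : M // IsConj (g : G) (y : G)} = Nat.card (N.subgroupOf M) * cs (f g) := by
      rw [← hker, ← card_isConj (f g)]
      rw [show Nat.card {y // IsConj (f g) y} = Nat.card ({y | IsConj (f g) y} : Set (G ⧸ N)) from rfl, ← card_preimage f hf]
      exact Nat.card_congr (Equiv.subtypeEquivRight fun y => h.isConj_iff_mk hg (y : G))
    have hcardM : Nat.card M = Nat.card (G ⧸ N) * Nat.card (N.subgroupOf M) := by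
      rw [← hker, Subgroup.card_eq_card_quotient_mul_card_subgroup f.ker,
        Nat.card_congr (QuotientGroup.quotientKerEquivOfSurjective f hf).toEquiv]
    let emb : C g → C (g : G) := fun a => ⟨(a : M), mem_C.2 (congrArg Subtype.val (mem_C.1 a.2))⟩
    have hemb : Function.Injective emb := fun a b hab =>
      Subtype.ext (Subtype.ext (congrArg (fun c : C (g : G) => (c : G)) hab))
    have hle : Nat.card (C g) ≤ Nat.card (C (g : G)) := Nat.card_le_card_of_injective emb hemb
    rw [h.card_C hg] at hle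
    let inc : {y : M // IsConj g y} → {y : M // IsConj (g : G) (y : G)} := fun y => ⟨y, by
      obtain ⟨c, hc⟩ := isConj_iff.1 y.2
      exact isConj_iff.2 ⟨c, by rw [← hc]; rfl⟩⟩
    have hinc : Function.Injective inc := fun a b hab =>
      Subtype.ext (congrArg (fun c : {y : M // IsConj (g : G) (y : G)} => (c : M)) hab)
    have hle2 := Nat.card_le_card_of_injective inc hinc
    rw [card_isConj, hcount] at hle2
    have h1 := (C g).card_mul_index
    rw [hcardM, ← (C (f g)).card_mul_index] at h1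
    have hpos : 0 < Nat.card (N.subgroupOf M) * cs (f g) :=
      Nat.mul_pos Nat.card_pos (Nat.pos_of_ne_zero (cs_ne_zero _))
    have h2 : Nat.card (C g) * cs g = Nat.card (C (f g)) * (Nat.card (N.subgroupOf M) * cs (f g)) := by
      rw [show cs g = (C g).index from rfl, h1, show cs (f g) = (C (f g)).index from rfl]; ring
    have hfg : f g = QuotientGroup.mk' N (g : G) := rfl
    rw [← hfg] at hle
    have h3 : cs g = Nat.card (N.subgroupOf M) * cs (f g) := by
      refine le_antisymm hle2 (Nat.le_of_mul_le_mul_left ?_ (Nat.card_pos (α := C (f g))))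
      rw [← h2]
      exact Nat.mul_le_mul_right _ hle
    have h4 : Nat.card (C (f g)) = Nat.card (C g) := by
      rw [h3] at h2
      exact (Nat.eq_of_mul_eq_mul_right hpos h2).symm
    refine ⟨fun y hy => ?_, fun a ha => ?_⟩
    · have hb := hinc.bijective_of_nat_card_le (by rw [card_isConj, hcount, h3])
      obtain ⟨y', hy'⟩ := hb.2 ⟨y, hy⟩
      have e : (y' : M) = y := congrArg (fun c : {y : M // IsConj (g : G) (y : G)} => (c : M)) hy'
      exact e ▸ y'.2
    · have hb := hemb.bijective_of_nat_card_le (by rw [h.card_C hg, ← hfg, h4])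
      obtain ⟨a', ha'⟩ := hb.2 ⟨a, ha⟩
      have e : ((a' : M) : G) = a := congrArg (fun c : C (g : G) => (c : G)) ha'
      exact e ▸ (a' : M).2
  exact ⟨fun g hg n hn => (key g hg).1 (g * n) (h g hg n hn), fun g hg hgN => (key ⟨g, hg⟩ hgN).2⟩

/-- Two commuting fixed-point-free automorphisms generating a group of order `p ^ 2` act on nothing. -/
theorem eq_one_of_norms {V : Type*} [CommGroup V] {p : ℕ} (hp : p.Prime) (a b : MulAut V) (hab : Commute a b)
    (hb : b ^ p = 1) (hline : ∀ i v, ∏ j ∈ Finset.range p, ((a * b ^ i) ^ j) v = 1)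
    (hnorm : ∀ v, ∏ j ∈ Finset.range p, (b ^ j) v = 1) (v : V) : v ^ p = 1 := by
  have hrow : ∀ j, 1 ≤ j → j < p → ∏ i ∈ Finset.range p, ((a * b ^ i) ^ j) v = 1 := by
    intro j hj1 hjp
    have hcop : p.Coprime j := (hp.coprime_iff_not_dvd).2 fun h => absurd (Nat.le_of_dvd hj1 h) (not_le.2 hjp)
    have e : ∀ i, ((a * b ^ i) ^ j) v = (b ^ (i * j % p)) ((a ^ j) v) := fun i => by
      rw [(hab.pow_right i).mul_pow, ((hab.pow_right i).pow_pow j j).eq, ← pow_mul, MulAut.mul_apply,
        ← pow_eq_pow_mod (i * j) hb]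
    simp only [e]
    refine Eq.trans ?_ (hnorm ((a ^ j) v))
    refine Finset.prod_nbij (fun i => i * j % p) (fun i _ => Finset.mem_range.2 (Nat.mod_lt _ hp.pos)) ?_ ?_ (fun i _ => rfl)
    · intro i hi i' hi' he
      rw [Finset.mem_coe, Finset.mem_range] at hi hi'
      have h1 : i ≡ i' [MOD p] := Nat.ModEq.cancel_right_of_coprime hcop he
      exact Nat.ModEq.eq_of_lt_of_lt h1 hi hi'
    · intro k hk
      rw [Finset.mem_coe, Finset.mem_range] at hk
      obtain ⟨c, -, hc⟩ := Nat.exists_mul_mod_eq_one_of_coprime hcop.symm hp.one_lt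
      refine ⟨k * c % p, Finset.mem_coe.2 (Finset.mem_range.2 (Nat.mod_lt _ hp.pos)), ?_⟩
      show k * c % p * j % p = k
      rw [Nat.mod_mul_mod, mul_assoc, mul_comm c j, Nat.mul_mod, hc, mul_one, Nat.mod_mod, Nat.mod_eq_of_lt hk]
  have h0 : ∏ j ∈ Finset.range p, ∏ i ∈ Finset.range p, ((a * b ^ i) ^ j) v = 1 := by
    rw [Finset.prod_comm]
    exact Finset.prod_eq_one fun i _ => hline i v
  rw [Finset.prod_eq_single 0] at h0
  · simpa using h0
  · intro j hj hj0
    exact hrow j (Nat.pos_of_ne_zero hj0) (Finset.mem_range.1 hj)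
  · intro h; exact absurd (Finset.mem_range.2 hp.pos) h

/-- The nilpotent case. -/
theorem IsPair.nilpotent_case (h : IsPair N) (hN : Group.IsNilpotent N) (hN1 : N ≠ ⊥) (hN2 : N ≠ ⊤) :
    (Nat.card N).Coprime N.index ∨ IsPrimePow (Nat.card N) := by
  classical
  by_contra hcon
  push Not at hcon
  obtain ⟨hnc, hnpp⟩ := hcon
  obtain ⟨p, hp, hpN, hpI⟩ := Nat.Prime.not_coprime_iff_dvd.1 hnc
  haveI := Fact.mk hp
  obtain ⟨s, hs, hsN, hsp⟩ : ∃ s, s.Prime ∧ s ∣ Nat.card N ∧ s ≠ p := by
    by_contra h'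
    push Not at h'
    apply hnpp
    have e := Nat.eq_prime_pow_of_unique_prime_dvd (Nat.card_pos (α := N)).ne' fun {d} hd hdn => h' d hd hdn
    rw [isPrimePow_nat_iff]
    refine ⟨p, _, hp, Nat.pos_of_ne_zero fun h0 => ?_, e.symm⟩
    rw [h0, pow_zero] at e
    exact hN1 (Subgroup.card_eq_one.1 e)
  haveI := Fact.mk hs
  have hnorm : ∀ (r : ℕ) [Fact r.Prime] (R : Sylow r N), (R : Subgroup N).Normal :=
    fun r hr R => (((Group.isNilpotent_of_finite_tfae (G := N)).out 0 3 rfl rfl).1 hN : ∀ (r : ℕ) (_ : Fact r.Prime) (R : Sylow r N), (R : Subgroup N).Normal) r hr R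
  haveI := hN
  obtain ⟨S⟩ := (inferInstance : Nonempty (Sylow s N))
  obtain ⟨Q⟩ := (inferInstance : Nonempty (Sylow p N))
  haveI := hnorm s S
  haveI := hnorm p Q
  haveI : (S : Subgroup N).Characteristic := S.characteristic_of_normal inferInstance
  haveI : (Q : Subgroup N).Characteristic := Q.characteristic_of_normal inferInstance
  -- the module: the centre of `N` intersected with the Sylow `s`-subgroup
  set Vn : Subgroup N := (S : Subgroup N) ⊓ center N with hVn
  have hSne : (S : Subgroup N) ≠ ⊥ := fun h' => by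
    have := S.card_eq_multiplicity
    rw [h', Subgroup.card_bot] at this
    exact absurd this.symm (Nat.one_lt_pow ((Nat.Prime.factorization_pos_of_dvd hs Nat.card_pos.ne' hsN).ne') hs.one_lt).ne'
  obtain ⟨v₀, hv₀S, hv₀1, hv₀Z⟩ : ∃ v, v ∈ (S : Subgroup N) ∧ v ≠ 1 ∧ v ∈ center N := by
    haveI : Nontrivial (S : Subgroup N) := (Subgroup.nontrivial_iff_ne_bot _).2 hSne
    obtain ⟨z, hz, hz1⟩ : ∃ z ∈ center (S : Subgroup N), z ≠ 1 := by
      haveI := IsPGroup.center_nontrivial S.2
      obtain ⟨z, hz⟩ := exists_ne (1 : center (S : Subgroup N))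
      exact ⟨z, z.2, fun h' => hz (Subtype.ext h')⟩
    refine ⟨z, z.2, fun h' => hz1 (Subtype.ext h'), ?_⟩
    rw [← cs_eq_one_iff]
    by_contra hne
    obtain ⟨r, hr, hrd⟩ := Nat.exists_prime_and_dvd hne
    haveI := Fact.mk hr
    obtain ⟨R⟩ := (inferInstance : Nonempty (Sylow r N))
    refine R.not_dvd_index (hrd.trans (index_dvd_of_le fun y hy => mem_C.2 ?_))
    by_cases hrs : r = s
    · subst hrs
      haveI := Sylow.unique_of_normal S inferInstance
      have hRS : R = S := Subsingleton.elim _ _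
      subst hRS
      exact congrArg Subtype.val (mem_center_iff.1 hz ⟨y, hy⟩)
    · exact Subgroup.commute_of_normal_of_disjoint _ _ (hnorm r R) (hnorm s S)
        (IsPGroup.disjoint_of_ne r s hrs _ _ R.2 S.2) y z hy z.2
  set V : Subgroup G := Vn.map N.subtype with hV
  haveI : Vn.Characteristic := inferInstance
  haveI : V.Normal := ConjAct.normal_of_characteristic_of_normal
  have hNV : ∀ a ∈ N, ∀ w ∈ V, a * w = w * a := by
    rintro a ha _ ⟨w, hw, rfl⟩
    exact congrArg Subtype.val (mem_center_iff.1 hw.2 ⟨a, ha⟩)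
  have hVs : ∀ w ∈ V, ∃ j, w ^ s ^ j = 1 := by
    rintro _ ⟨w, hw, rfl⟩
    obtain ⟨j, hj⟩ := S.2 ⟨w, hw.1⟩
    exact ⟨j, by simpa using congrArg (fun t : (S : Subgroup N) => ((t : N) : G)) hj⟩
  letI : CommGroup V :=
    { (inferInstance : Group V) with
      mul_comm := fun a b => Subtype.ext (hNV a (map_subtype_le Vn a.2) b b.2) }
  let ρ : G →* MulAut V := MulAut.conjNormal
  have hker : N ≤ ρ.ker := fun a ha => by
    rw [MonoidHom.mem_ker]
    refine MulEquiv.ext fun w => Subtype.ext ?_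
    simp only [ρ, MulAut.conjNormal_apply, MulAut.one_apply]
    rw [hNV a ha w w.2, mul_inv_cancel_right]
  let ρ' : G ⧸ N →* MulAut V := QuotientGroup.lift N ρ hker
  -- p-elements of the quotient act fixed-point-freely
  have hfpf : ∀ q : G ⧸ N, q ≠ 1 → (∃ i, q ^ p ^ i = 1) → ∀ w : V, ρ' q w = w → w = 1 := by
    intro q hq1 ⟨i, hi⟩ w hw
    obtain ⟨g, rfl⟩ := QuotientGroup.mk'_surjective N q
    -- replace the lift by its `p`-part
    set e := (orderOf g).factorization p
    set m := orderOf g / p ^ e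
    have hem : p ^ e * m = orderOf g := Nat.ordProj_mul_ordCompl_eq_self _ p
    have hcop : (p ^ i).Coprime m := Nat.Coprime.pow_left i (Nat.coprime_ordCompl hp (orderOf_pos g).ne')
    obtain ⟨c, hc⟩ : ∃ c, (QuotientGroup.mk' N g) ^ (m * c) = QuotientGroup.mk' N g := by
      have h1 : orderOf (QuotientGroup.mk' N g) ∣ p ^ i := orderOf_dvd_of_pow_eq_one hi
      obtain ⟨c, -, hc⟩ := Nat.exists_mul_mod_eq_one_of_coprime hcop.symm (lt_of_lt_of_le hp.one_lt (by
        refine Nat.le_self_pow ?_ p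
        rintro rfl
        rw [pow_zero, pow_one] at hi
        exact hq1 hi))
      refine ⟨c, ?_⟩
      rw [← Nat.div_add_mod (m * c) (p ^ i), hc, pow_succ, pow_mul, hi, one_pow, one_mul]
    set a := g ^ (m * c)
    have ha : QuotientGroup.mk' N a = QuotientGroup.mk' N g := by rw [map_pow]; exact hc
    have hap : a ^ p ^ e = 1 := by
      rw [← pow_mul, show m * c * p ^ e = p ^ e * m * c by ring, hem, pow_mul, pow_orderOf_eq_one, one_pow]
    have haN : a ∉ N := fun h' => hq1 (by rw [← ha]; exact (QuotientGroup.eq_one_iff a).2 h')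
    have hwa : Commute a (w : G) := by
      have h1 : ρ a w = w := by
        have : ρ a = ρ' (QuotientGroup.mk' N a) := rfl
        rw [this, ha]; exact hw
      exact mul_inv_eq_iff_eq_mul.1 (by simpa [ρ] using congrArg Subtype.val h1)
    obtain ⟨j, hj⟩ := hVs w w.2
    obtain ⟨c', hc'⟩ := isConj_iff.1 (h a haN w (map_subtype_le Vn w.2))
    have h2 : (a * (w : G)) ^ p ^ e = 1 := by rw [← hc', conj_pow, hap, mul_one, mul_inv_cancel]
    rw [hwa.mul_pow, hap, one_mul] at h2
    refine Subtype.ext ?_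
    have hcop' : (p ^ e).Coprime (s ^ j) := Nat.Coprime.pow _ _ ((Nat.coprime_primes hp hs).2 (Ne.symm hsp))
    exact mem_bot.1 (CfsgLib.TwoClassSizes.mem_of_pow_mem hcop' (mem_bot.2 h2) (mem_bot.2 hj))
  have hnorm1 : ∀ q : G ⧸ N, q ^ p = 1 → q ≠ 1 → ∀ w : V, ∏ j ∈ Finset.range p, (ρ' q ^ j) w = 1 := by
    intro q hq hq1 w
    refine hfpf q hq1 ⟨1, by rwa [pow_one]⟩ _ ?_
    set F : ℕ → V := fun j => (ρ' q ^ j) w
    show ρ' q (∏ j ∈ Finset.range p, F j) = ∏ j ∈ Finset.range p, F j
    rw [map_prod]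
    have e : ∀ j, ρ' q (F j) = F (j + 1) := fun j => by simp only [F, pow_succ', MulAut.mul_apply]
    simp only [e]
    have h1 := Finset.prod_range_succ F p
    rw [Finset.prod_range_succ' F p, show F p = F 0 by simp [F, ← map_pow, hq]] at h1
    exact mul_right_cancel h1
  -- no `p ^ 2`
  have hno : ∀ x y : G ⧸ N, Commute x y → x ^ p = 1 → y ^ p = 1 → y ≠ 1 → x ∈ zpowers y := by
    intro x y hxy hx hy hy1
    by_contra hxy'
    have hline : ∀ i (w : V), ∏ j ∈ Finset.range p, ((ρ' x * ρ' y ^ i) ^ j) w = 1 := fun i w => by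
      rw [← map_pow, ← map_mul]
      refine hnorm1 _ ?_ (fun h' => hxy' ?_) w
      · rw [(hxy.pow_right i).mul_pow, hx, ← pow_mul, mul_comm, pow_mul, hy, one_pow, one_mul]
      · rw [eq_inv_of_mul_eq_one_left h']
        exact inv_mem (Subgroup.pow_mem _ (mem_zpowers y) i)
    have hvp := eq_one_of_norms hp (ρ' x) (ρ' y) (hxy.map ρ') (by rw [← map_pow, hy, map_one]) hline
      (fun w => hnorm1 y hy hy1 w) ⟨v₀, v₀, ⟨hv₀S, hv₀Z⟩, rfl⟩
    obtain ⟨j, hj⟩ := S.2 ⟨v₀, hv₀S⟩
    have h1 : v₀ ^ s ^ j = 1 := by simpa using congrArg Subtype.val hj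
    have h2 : v₀ ^ p = 1 := by
      have h3 := congrArg Subtype.val hvp
      exact Subtype.ext (by simpa using h3)
    exact hv₀1 (mem_bot.1 (CfsgLib.TwoClassSizes.mem_of_pow_mem
      (Nat.Coprime.pow_right j ((Nat.coprime_primes hp hs).2 (Ne.symm hsp))) (mem_bot.2 h2) (mem_bot.2 h1)))
  -- a `p`-element of the quotient of largest order
  obtain ⟨ā, hā, hmax⟩ : ∃ x : G ⧸ N, (∃ i, orderOf x = p ^ i) ∧
      ∀ y : G ⧸ N, (∃ i, orderOf y = p ^ i) → orderOf y ≤ orderOf x := by
    have hne : {x : G ⧸ N | ∃ i, orderOf x = p ^ i}.Nonempty := ⟨1, 0, by simp⟩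
    obtain ⟨x, hx, hx'⟩ := Set.exists_max_image _ (fun x => orderOf x) (Set.toFinite _) hne
    exact ⟨x, hx, hx'⟩
  have hp1 : p ≤ orderOf ā := by
    obtain ⟨x, hx⟩ := exists_prime_orderOf_dvd_card' (G := G ⧸ N) p (by rwa [← Subgroup.index_eq_card])
    exact hx ▸ hmax x ⟨1, by rw [hx, pow_one]⟩
  obtain ⟨k, hk⟩ := hā
  have hk0 : k ≠ 0 := by rintro rfl; rw [pow_zero] at hk; have := hp.one_lt; omega
  have hā1 : ā ≠ 1 := fun h' => by rw [h', orderOf_one] at hp1; exact absurd hp1 (not_le.2 hp.one_lt)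
  -- every commuting `p`-element lies in `⟨ā⟩`
  have hcyc : ∀ i, ∀ y : G ⧸ N, Commute y ā → y ^ p ^ i = 1 → y ∈ zpowers ā := by
    intro i
    induction i with
    | zero => intro y _ hy; rw [pow_zero, pow_one] at hy; rw [hy]; exact one_mem _
    | succ i ih =>
      intro y hy hyp
      obtain ⟨c, hc⟩ := mem_zpowers_iff.1 (ih (y ^ p) (hy.pow_left p) (by rw [← pow_mul, ← pow_succ']; exact hyp))
      obtain ⟨c', rfl⟩ : (p : ℤ) ∣ c := by
        by_contra hpc
        have h1 : orderOf (ā ^ c) = p ^ k := by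
          rw [← hk]
          refine Nat.dvd_antisymm (orderOf_dvd_of_mem_zpowers ⟨c, rfl⟩) ?_
          refine orderOf_dvd_of_mem_zpowers ?_
          have hcop : IsCoprime c ((p ^ k : ℕ) : ℤ) := by
            push_cast
            refine IsCoprime.pow_right ?_
            exact ((Nat.prime_iff_prime_int.1 hp).coprime_iff_not_dvd.2 hpc).symm
          obtain ⟨α, β, hαβ⟩ := hcop
          refine ⟨α, ?_⟩
          show (ā ^ c) ^ α = ā
          rw [← zpow_mul, show c * α = 1 - β * ((p ^ k : ℕ) : ℤ) by rw [← hαβ]; ring, zpow_sub, zpow_one,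
            mul_comm, zpow_mul, zpow_natCast, ← hk, pow_orderOf_eq_one, one_zpow, inv_one, mul_one]
        rw [hc] at h1
        obtain ⟨t, -, ht⟩ := (Nat.dvd_prime_pow hp).1 (orderOf_dvd_of_pow_eq_one hyp)
        have hle := hmax y ⟨t, ht⟩
        rcases Nat.eq_zero_or_pos t with rfl | ht0
        · rw [pow_zero, orderOf_eq_one_iff] at ht
          rw [ht, one_pow, orderOf_one] at h1
          exact absurd h1 (Nat.one_lt_pow hk0 hp.one_lt).ne
        rw [orderOf_pow' y hp.ne_zero, ht, Nat.gcd_eq_right (dvd_pow_self p ht0.ne')] at h1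
        have h1' : p ^ (t - 1) = p ^ k := by
          rw [← h1, show t = t - 1 + 1 by omega, pow_succ, Nat.mul_div_cancel _ hp.pos, Nat.add_sub_cancel]
        have h1'' := Nat.pow_right_injective hp.two_le h1'
        rw [ht, hk] at hle
        have := (Nat.pow_le_pow_iff_right hp.one_lt).1 hle
        omega
      set y' := y * (ā ^ c')⁻¹
      have hy' : y' ^ p = 1 := by
        rw [((hy.zpow_right c').inv_right).mul_pow, inv_pow, ← zpow_natCast (ā ^ c'), ← zpow_mul, mul_comm, hc,
          mul_inv_cancel]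
      set z := ā ^ p ^ (k - 1)
      have hz : z ^ p = 1 := by rw [← pow_mul, ← pow_succ, show k - 1 + 1 = k by omega, ← hk, pow_orderOf_eq_one]
      have hz1 : z ≠ 1 := by
        refine pow_ne_one_of_lt_orderOf (pow_ne_zero _ hp.ne_zero) ?_
        rw [hk]; exact Nat.pow_lt_pow_right hp.one_lt (by omega)
      have hcomm : Commute y' z := (hy.mul_left ((Commute.refl ā).zpow_left c').inv_left).pow_right _
      have h1 : y' ∈ zpowers ā :=
        zpowers_le.2 (Subgroup.pow_mem _ (mem_zpowers ā) _) (hno y' z hcomm hy' hz hz1)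
      have h2 := mul_mem h1 (Subgroup.zpow_mem _ (mem_zpowers ā) c')
      simp only [y', inv_mul_cancel_right] at h2
      exact h2
  -- the lift
  obtain ⟨g, rfl⟩ := QuotientGroup.mk'_surjective N ā
  set e := (orderOf g).factorization p
  set m := orderOf g / p ^ e
  have hem : p ^ e * m = orderOf g := Nat.ordProj_mul_ordCompl_eq_self _ p
  obtain ⟨c, -, hc⟩ := Nat.exists_mul_mod_eq_one_of_coprime
    (Nat.Coprime.pow_left k (Nat.coprime_ordCompl hp (orderOf_pos g).ne')).symm (Nat.one_lt_pow hk0 hp.one_lt)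
  set a := g ^ (m * c) with hadef
  have ha : QuotientGroup.mk' N a = QuotientGroup.mk' N g := by
    rw [map_pow, ← Nat.div_add_mod (m * c) (p ^ k), hc, pow_succ, pow_mul, ← hk, pow_orderOf_eq_one, one_pow, one_mul]
  have hap : a ^ p ^ e = 1 := by
    rw [← pow_mul, show m * c * p ^ e = p ^ e * m * c by ring, hem, pow_mul, pow_orderOf_eq_one, one_pow]
  have haN : a ∉ N := fun h' => hā1 (by rw [← ha]; exact (QuotientGroup.eq_one_iff a).2 h')
  -- a fixed point in the normal Sylow `p`-subgroup of `N`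
  set Q' : Subgroup G := (Q : Subgroup N).map N.subtype
  haveI : Q'.Normal := ConjAct.normal_of_characteristic_of_normal
  have hQ'p : IsPGroup p Q' := Q.2.map _
  have hQcard : p ∣ Nat.card Q' := by
    rw [card_map_of_injective N.subtype_injective, Q.card_eq_multiplicity]
    exact dvd_pow_self p (Nat.Prime.factorization_pos_of_dvd hp Nat.card_pos.ne' hpN).ne'
  obtain ⟨t, htQ, ht1, hta⟩ : ∃ t ∈ Q', t ≠ 1 ∧ t ∈ C a := by
    let σ : zpowers a →* MulAut Q' := MulAut.conjNormal.comp (zpowers a).subtype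
    letI : MulAction (zpowers a) Q' := MulAction.compHom Q' σ
    obtain ⟨t, ht, ht1⟩ := (CfsgLib.ClassSize.Nilp.isPGroup_zpowers hap).exists_fixed_point_of_prime_dvd_card_of_fixed_point
      (α := Q') hQcard (a := 1) (fun z => map_one (σ z))
    refine ⟨t, t.2, fun h' => ht1 (Subtype.ext h'.symm), ?_⟩
    have h1 : σ ⟨a, mem_zpowers a⟩ t = t := ht ⟨a, mem_zpowers a⟩
    have h2 : a * (t : G) * a⁻¹ = t := by simpa [σ] using congrArg Subtype.val h1
    exact mem_C_symm.1 (mem_C_of_conj_eq h2)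
  -- a `p`-subgroup of the centraliser, too large
  have hat : Commute a t := (mem_C.1 hta).symm
  set R := zpowers a ⊔ zpowers t
  have hRC : R ≤ C a := sup_le (zpowers_le.2 (mem_C.2 rfl)) (zpowers_le.2 hta)
  obtain ⟨f, hf⟩ := hQ'p ⟨t, htQ⟩
  have htp : t ^ p ^ f = 1 := by simpa using congrArg Subtype.val hf
  have hRp : IsPGroup p R := by
    refine IsPGroup.to_sup_of_normal_right' (CfsgLib.ClassSize.Nilp.isPGroup_zpowers hap)
      (CfsgLib.ClassSize.Nilp.isPGroup_zpowers htp) ?_
    refine le_trans (zpowers_le.2 ?_) (centralizer_le_normalizer _)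
    rw [mem_centralizer_iff]
    intro z hz
    obtain ⟨j, rfl⟩ := mem_zpowers_iff.1 hz
    exact (hat.zpow_right j).symm.eq
  have htN : t ∈ N := map_subtype_le _ htQ
  have hRcard : orderOf (QuotientGroup.mk' N g) * p ∣ Nat.card R := by
    rw [Subgroup.card_eq_card_quotient_mul_card_subgroup (N.subgroupOf R)]
    refine mul_dvd_mul ?_ ?_
    · rw [← ha]
      let q : R →* G ⧸ N := (QuotientGroup.mk' N).comp R.subtype
      have hq : q.ker = N.subgroupOf R := by
        ext z; rw [MonoidHom.mem_ker, mem_subgroupOf]; exact QuotientGroup.eq_one_iff (z : G)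
      rw [← hq, Nat.card_congr (QuotientGroup.quotientKerEquivRange q).toEquiv]
      exact Subgroup.orderOf_dvd_natCard q.range ⟨⟨a, mem_sup_left (mem_zpowers a)⟩, rfl⟩
    · obtain ⟨i, hi⟩ := IsPGroup.iff_card.1 (hRp.to_subgroup (N.subgroupOf R))
      rw [hi]
      refine dvd_pow_self p fun h0 => ht1 ?_
      rw [h0, pow_zero, Subgroup.card_eq_one] at hi
      have htR : (⟨t, mem_sup_right (mem_zpowers t)⟩ : R) ∈ N.subgroupOf R := htN
      rw [hi, mem_bot] at htR
      exact congrArg Subtype.val htR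
  obtain ⟨i, hi⟩ := IsPGroup.iff_card.1 hRp
  have hdvd : p ^ i ∣ Nat.card (C (QuotientGroup.mk' N g)) := by
    rw [← ha, ← h.card_C haN, ← hi]; exact Subgroup.card_dvd_of_le hRC
  obtain ⟨T, hT⟩ := Sylow.exists_subgroup_card_pow_prime p hdvd
  have hTle : T.map (C (QuotientGroup.mk' N g)).subtype ≤ zpowers (QuotientGroup.mk' N g) := by
    rintro _ ⟨y, hy, rfl⟩
    obtain ⟨l, hl⟩ := (IsPGroup.of_card hT) ⟨y, hy⟩
    exact hcyc l _ (mem_C.1 y.2) (by
      have := congrArg (fun w : T => ((w : C (QuotientGroup.mk' N g)) : G ⧸ N)) hl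
      simp only [SubgroupClass.coe_pow, OneMemClass.coe_one] at this
      exact this)
  have h1 := Subgroup.card_dvd_of_le hTle
  rw [card_map_of_injective (C (QuotientGroup.mk' N g)).subtype_injective, hT, Nat.card_zpowers, hk] at h1
  rw [hi, hk, ← pow_succ] at hRcard
  have h2 := (Nat.pow_dvd_pow_iff_le_right hp.one_lt).1 (hRcard.trans h1)
  omega

/-- Camina's theorem. -/
theorem IsPair.trichotomy (h : IsPair N) (hN1 : N ≠ ⊥) (hN2 : N ≠ ⊤) :
    (∀ x ∈ N, x ≠ 1 → C x ≤ N) ∨ IsPrimePow (Nat.card N) ∨ IsPrimePow N.index := by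
  classical
  obtain ⟨M, hM, hMmin⟩ : ∃ M : Subgroup G, N ⊔ M = ⊤ ∧ ∀ X < M, N ⊔ X ≠ ⊤ := by
    obtain ⟨M, -, hM⟩ := exists_minimal_le_of_wellFoundedLT (fun X : Subgroup G => N ⊔ X = ⊤) ⊤ (sup_top_eq N)
    exact ⟨M, hM.prop, fun X hX h' => absurd (hM.le_of_le h' hX.le) (not_le_of_gt hX)⟩
  obtain ⟨hpair, hCM⟩ := h.supplement M hM
  set N0 := N.subgroupOf M
  have hsurj : ∀ g : G, ∃ a ∈ N, ∃ b ∈ M, g = a * b := fun g => by
    obtain ⟨a, ha, b, hb, e⟩ := mem_sup_of_normal_left.1 (show g ∈ N ⊔ M by rw [hM]; exact mem_top g)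
    exact ⟨a, ha, b, hb, e.symm⟩
  by_cases hN0 : N0 = ⊥
  · left
    intro x hx hx1 g hg
    by_contra hgN
    obtain ⟨a, ha, b, hb, rfl⟩ := hsurj g
    have hbN : b ∉ N := fun h' => hgN (mul_mem ha h')
    obtain ⟨c, hc⟩ := isConj_iff.1 (h b hbN (b⁻¹ * a * b) ((inferInstance : N.Normal).conj_mem' a ha b))
    rw [show b * (b⁻¹ * a * b) = a * b by group] at hc
    have h1 : c⁻¹ * x * c ∈ C b := by
      have h2 : Commute (a * b) x := mem_C.1 hg
      rw [← hc] at h2
      refine mem_C.2 ?_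
      calc c⁻¹ * x * c * b = c⁻¹ * (x * (c * b * c⁻¹)) * c := by group
        _ = c⁻¹ * ((c * b * c⁻¹) * x) * c := by rw [h2.eq]
        _ = b * (c⁻¹ * x * c) := by group
    have h3 : (⟨_, hCM b hb hbN h1⟩ : M) ∈ N0 := (inferInstance : N.Normal).conj_mem' x hx c
    rw [hN0, mem_bot] at h3
    have h4 : c⁻¹ * x * c = 1 := congrArg Subtype.val h3
    apply hx1
    calc x = c * (c⁻¹ * x * c) * c⁻¹ := by group
      _ = 1 := by rw [h4, mul_one, mul_inv_cancel]
  have hN0top : N0 ≠ ⊤ := by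
    intro h'
    apply hN2
    rw [← hM]
    exact (sup_eq_left.2 (subgroupOf_eq_top.1 h')).symm
  have hfr : N0 ≤ frattini M := by
    unfold frattini Order.radical
    refine le_iInf₂ fun X hX => ?_
    by_contra hle
    have h1 : N0 ⊔ X = ⊤ := hX.2 _ (lt_of_le_of_ne le_sup_right fun h' => hle (h'.symm ▸ le_sup_left))
    refine hMmin (X.map M.subtype) ?_ ?_
    · refine lt_of_le_of_ne (map_subtype_le X) fun h' => hX.1 ?_
      exact top_le_iff.1 fun a _ => by
        obtain ⟨b, hb, hba⟩ := (h'.symm ▸ a.2 : (a : G) ∈ X.map M.subtype)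
        exact Subtype.ext hba ▸ hb
    · refine top_le_iff.1 fun g _ => ?_
      obtain ⟨a, ha, b, hb, rfl⟩ := hsurj g
      obtain ⟨u, hu, v, hv, huv⟩ := mem_sup_of_normal_left.1 (show (⟨b, hb⟩ : M) ∈ N0 ⊔ X by rw [h1]; exact mem_top _)
      have e : b = (u : G) * v := (congrArg Subtype.val huv).symm
      rw [e, ← mul_assoc]
      exact mul_mem_sup (mul_mem ha hu) ⟨v, hv, rfl⟩
  haveI hN0n : Group.IsNilpotent N0 := by
    haveI : Group.IsNilpotent (frattini M) := frattini_nilpotent
    exact Group.nilpotent_of_mulEquiv (subgroupOfEquivOfLe hfr)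
  have hidx : N0.index = N.index := by
    have e := Subgroup.relIndex_sup_right (H := M) (K := N)
    rw [sup_comm, hM, relIndex_top_right] at e
    exact e.symm
  rcases hpair.nilpotent_case hN0n hN0 hN0top with hc | hc
  · exfalso
    obtain ⟨K, hK⟩ := Subgroup.exists_right_complement'_of_coprime hc
    have h1 : K = ⊤ := frattini_nongenerating (top_le_iff.1 (hK.sup_eq_top ▸ sup_le (hfr.trans le_sup_right) le_sup_left))
    apply hN0
    have := hK.disjoint
    rwa [h1, disjoint_top] at this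
  by_cases hI : IsPrimePow N.index
  · exact Or.inr (Or.inr hI)
  obtain ⟨p, i, hp, hi0, hi⟩ := (isPrimePow_nat_iff _).1 hc
  obtain ⟨r, hr, hrI, hrp⟩ : ∃ r, r.Prime ∧ r ∣ N.index ∧ r ≠ p := by
    by_contra h'
    push Not at h'
    apply hI
    have e := Nat.eq_prime_pow_of_unique_prime_dvd (Subgroup.index_ne_zero_of_finite (H := N)) fun {d} hd hdn => h' d hd hdn
    rw [isPrimePow_nat_iff]
    refine ⟨p, _, hp, Nat.pos_of_ne_zero fun h0 => ?_, e.symm⟩
    rw [h0, pow_zero] at e
    exact hN2 (Subgroup.index_eq_one.1 e)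
  haveI := Fact.mk hr
  obtain ⟨q, hq⟩ := exists_prime_orderOf_dvd_card' (G := M ⧸ N0) r (by rw [← Subgroup.index_eq_card, hidx]; exact hrI)
  obtain ⟨g, rfl⟩ := QuotientGroup.mk'_surjective N0 q
  set e := (orderOf g).factorization r
  set m := orderOf g / r ^ e
  have hem : r ^ e * m = orderOf g := Nat.ordProj_mul_ordCompl_eq_self _ r
  have hrm : ¬ r ∣ m := Nat.not_dvd_ordCompl hr (orderOf_pos g).ne'
  set y := g ^ m
  have hy : y ∉ N0 := by
    intro h'
    have h1 := orderOf_dvd_of_pow_eq_one (show (QuotientGroup.mk' N0 g) ^ m = 1 by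
      rw [← map_pow]; exact (QuotientGroup.eq_one_iff _).2 h')
    rw [hq] at h1
    exact hrm h1
  set x : G := (y : G)
  have hxr : x ^ r ^ e = 1 := by
    have : y ^ r ^ e = 1 := by rw [← pow_mul, mul_comm, hem, pow_orderOf_eq_one]
    simpa using congrArg Subtype.val this
  have hxN : x ∉ N := hy
  have hfix : ∀ t ∈ N, t * x = x * t → t = 1 := by
    intro t ht htx
    have htM : t ∈ M := hCM x y.2 hxN (mem_C.2 htx)
    have h1 : (⟨t, htM⟩ : M) ∈ N0 := ht
    have h2 : t ^ p ^ i = 1 := by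
      have := Subgroup.orderOf_dvd_natCard N0 h1
      rw [← hi] at this
      simpa using congrArg Subtype.val (orderOf_dvd_iff_pow_eq_one.1 this)
    obtain ⟨c, hc'⟩ := isConj_iff.1 (h x hxN t ht)
    have h3 : (x * t) ^ r ^ e = 1 := by rw [← hc', conj_pow, hxr, mul_one, mul_inv_cancel]
    rw [(show Commute x t from htx.symm).mul_pow, hxr, one_mul] at h3
    exact mem_bot.1 (CfsgLib.TwoClassSizes.mem_of_pow_mem
      (Nat.Coprime.pow _ _ ((Nat.coprime_primes hr hp).2 hrp)) (mem_bot.2 h3) (mem_bot.2 h2))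
  have hxrN : x ^ r = 1 := by
    refine hfix _ ?_ (Commute.pow_left (Commute.refl x) r).eq
    have h1 : (QuotientGroup.mk' N0 y) ^ r = 1 := by
      rw [map_pow, ← pow_mul, mul_comm, pow_mul, ← hq, pow_orderOf_eq_one, one_pow]
    rw [← map_pow, QuotientGroup.mk'_apply, QuotientGroup.eq_one_iff, mem_subgroupOf] at h1
    simpa using h1
  have hx1 : x ≠ 1 := fun h' => hxN (h' ▸ one_mem N)
  have hNnil : Group.IsNilpotent N := by
    by_cases h1 : (MulAut.conjNormal x : MulAut N) = 1
    · exfalso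
      apply hN1
      rw [eq_bot_iff]
      intro t ht
      rw [mem_bot]
      refine hfix t ht ?_
      have h2 := congrArg (fun φ : MulAut N => ((φ ⟨t, ht⟩ : N) : G)) h1
      simp only [MulAut.conjNormal_apply, MulAut.one_apply] at h2
      exact (mul_inv_eq_iff_eq_mul.1 h2).symm
    refine Cfsg.Agent.S0033.result (MulAut.conjNormal x : MulAut N) ?_ r hr ?_
    · intro t ht
      refine Subtype.ext (hfix t t.2 ?_)
      have h2 : x * (t : G) * x⁻¹ = t := by simpa using congrArg Subtype.val ht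
      exact (mul_inv_eq_iff_eq_mul.1 h2).symm
    · refine orderOf_eq_prime ?_ h1
      rw [← map_pow, hxrN, map_one]
  rcases h.nilpotent_case hNnil hN1 hN2 with hc' | hc'
  · exact Or.inl (h.fpf_of_coprime hc')
  · exact Or.inr (Or.inl hc')

end CfsgLib.CaminaPair
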