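import Cfsg.Agent.Lib.CaminaPair.StabNoncyclic
import Cfsg.Agent.Lib.Transfer.PGroup

/-!
# A point with trivial stabiliser does not exist
-/

set_option autoImplicit false
set_option linter.unusedSectionVars false
set_option linter.style.haveILetI false

namespace CfsgLib.CaminaPair.Points

variable {k : Type*} [Field k] [IsAlgClosed k] {G : Type*} [Group G] [Finite G] {A B : Subgroup G}

theorem prime_mul_card_le {p : ℕ} (hp : p.Prime) (hP : IsPGroup p G) {H K : Subgroup G} (h : H < K) :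
    p * Nat.card H ≤ Nat.card K := by
  have := Fact.mk hp
  obtain ⟨i, hi⟩ := IsPGroup.iff_card.1 (hP.to_subgroup H)
  obtain ⟨j, hj⟩ := IsPGroup.iff_card.1 (hP.to_subgroup K)
  have hd := Subgroup.card_dvd_of_le h.le
  rw [hi, hj] at hd ⊢
  have hne : i ≠ j := by
    rintro rfl
    exact h.ne (Subgroup.eq_of_le_of_card_ge h.le (by rw [hi, hj]))
  have hij := (Nat.pow_dvd_pow_iff_le_right hp.one_lt).1 hd
  rw [← pow_succ']
  exact Nat.pow_le_pow_right hp.pos (by omega)

/-- A normal subgroup of a `p`-group has a central step. -/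
theorem exists_step {p : ℕ} (hp : p.Prime) (hP : IsPGroup p G) (B : Subgroup G) [B.Normal] (hB : B ≠ ⊥) :
    ∃ (B₀ : Subgroup G) (b : G), B₀.Normal ∧ B₀ < B ∧ b ∈ B ∧ b ^ p ∈ B₀ ∧ b ∉ B₀ ∧
      (∀ g : G, g * b * g⁻¹ * b⁻¹ ∈ B₀) ∧ ∀ x ∈ B, ∃ i : Fin p, (b ^ (i : ℕ))⁻¹ * x ∈ B₀ := by
  classical
  have := Fact.mk hp
  obtain ⟨B₀, ⟨hn, hlt⟩, hmax⟩ := (Set.toFinite {X : Subgroup G | X.Normal ∧ X < B}).exists_maximal
    ⟨⊥, inferInstance, bot_lt_iff_ne_bot.2 hB⟩
  haveI := hn
  set q := QuotientGroup.mk' B₀ with hq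
  have : Group.IsNilpotent (G ⧸ B₀) := (hP.to_quotient B₀).isNilpotent
  have : (B.map q).Normal := Subgroup.Normal.map inferInstance q (QuotientGroup.mk'_surjective _)
  have hne : B.map q ≠ ⊥ := by
    rw [ne_eq, Subgroup.map_eq_bot_iff, hq, QuotientGroup.ker_mk']
    exact fun h => hlt.not_ge h
  have hcne := CfsgLib.Transfer.inf_center_ne_bot hne
  obtain ⟨w, hw⟩ := exists_prime_orderOf_dvd_card' (G := (B.map q ⊓ Subgroup.center (G ⧸ B₀) : Subgroup (G ⧸ B₀))) p (by
    obtain ⟨i, hi⟩ := IsPGroup.iff_card.1 (((hP.to_quotient B₀)).to_subgroup (B.map q ⊓ Subgroup.center (G ⧸ B₀)))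
    rw [hi]
    refine dvd_pow_self p fun h0 => hcne ?_
    rw [h0, pow_zero] at hi
    exact Subgroup.card_eq_one.1 hi)
  obtain ⟨b, hb, hbw⟩ := Subgroup.mem_map.1 w.2.1
  have hord : orderOf (q b) = p := by rw [hbw, ← hw, Subgroup.orderOf_coe]
  have hcent : q b ∈ Subgroup.center (G ⧸ B₀) := by rw [hbw]; exact w.2.2
  have hzn : (Subgroup.zpowers (q b)).Normal := ⟨fun n hn g => by
    obtain ⟨i, rfl⟩ := Subgroup.mem_zpowers_iff.1 hn
    rw [Subgroup.mem_center_iff.1 ((Subgroup.center _).zpow_mem hcent i) g, mul_inv_cancel_right]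
    exact Subgroup.zpow_mem _ (Subgroup.mem_zpowers _) i⟩
  have hbne : b ∉ B₀ := by
    intro h
    rw [show q b = 1 from (QuotientGroup.eq_one_iff b).2 h, orderOf_one] at hord
    exact hp.one_lt.ne hord
  have hX : (Subgroup.zpowers (q b)).comap q = B := by
    have h1 : B₀ ≤ (Subgroup.zpowers (q b)).comap q := fun x hx => by
      rw [Subgroup.mem_comap, show q x = 1 from (QuotientGroup.eq_one_iff x).2 hx]; exact one_mem _
    have h2 : (Subgroup.zpowers (q b)).comap q ≤ B := fun x hx => by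
      obtain ⟨i, hi⟩ := Subgroup.mem_zpowers_iff.1 (Subgroup.mem_comap.1 hx)
      rw [← map_zpow] at hi
      obtain ⟨w', hw', hwx⟩ := (QuotientGroup.mk'_eq_mk' B₀).1 hi
      rw [← hwx]
      exact B.mul_mem (B.zpow_mem hb i) (hlt.le hw')
    rcases h2.lt_or_eq with h | h
    · exact absurd (hmax (show _ ∈ {X : Subgroup G | X.Normal ∧ X < B} from ⟨hzn.comap q, h⟩) h1
        (show b ∈ (Subgroup.zpowers (q b)).comap q from Subgroup.mem_zpowers (q b))) hbne
    · exact h
  refine ⟨B₀, b, hn, hlt, hb, ?_, hbne, fun g => ?_, fun x hx => ?_⟩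
  · rw [← QuotientGroup.eq_one_iff, ← QuotientGroup.mk'_apply, ← hq, map_pow, ← hord, pow_orderOf_eq_one]
  · rw [← QuotientGroup.eq_one_iff, ← QuotientGroup.mk'_apply, ← hq, map_mul, map_mul, map_mul, map_inv, map_inv,
      Subgroup.mem_center_iff.1 hcent (q g)]
    group
  · rw [← hX, Subgroup.mem_comap, mem_zpowers_iff_mem_range_orderOf, hord, Finset.mem_image] at hx
    obtain ⟨i, hi, hix⟩ := hx
    refine ⟨⟨i, Finset.mem_range.1 hi⟩, ?_⟩
    rw [← QuotientGroup.eq_one_iff, ← QuotientGroup.mk'_apply, ← hq, map_mul, map_inv, map_pow, ← hix, inv_mul_cancel]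

/-- At most `p` points over a point one step down. -/
theorem card_fibre_le [A.Normal] [B.Normal] {B₀ : Subgroup G} [B₀.Normal] (hBA : B ≤ A) (h0 : B₀ ≤ B)
    (hG : (Nat.card G : k) ≠ 0) {p : ℕ} {b : G} (hb : ∀ g : G, g * b * g⁻¹ * b⁻¹ ∈ B₀)
    (hcov : ∀ x ∈ B, ∃ i : Fin p, (b ^ (i : ℕ))⁻¹ * x ∈ B₀) (f₀ : Pts k A B₀) :
    Nat.card {ψ : Pts k A B // res h0 ψ = f₀} ≤ p := by
  classical
  have := Fintype.ofFinite G
  have := finite_pts (k := k) (A := A) hBA hG
  have := Fintype.ofFinite {ψ : Pts k A B // res h0 ψ = f₀}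
  obtain ⟨e, he1, -, he3⟩ := exists_idem (h0.trans hBA) hG f₀
  have hcen : ∀ i : ℕ, ∀ g : G, g * b ^ i * g⁻¹ * (b ^ i)⁻¹ ∈ B₀ := by
    intro i g
    rw [← QuotientGroup.eq_one_iff, ← QuotientGroup.mk'_apply]
    have h1 : Commute (QuotientGroup.mk' B₀ g) (QuotientGroup.mk' B₀ b) := by
      have := (QuotientGroup.eq_one_iff (N := B₀) _).2 (hb g)
      rw [← QuotientGroup.mk'_apply, map_mul, map_mul, map_mul, map_inv, map_inv, mul_inv_eq_one, mul_inv_eq_iff_eq_mul] at this
      exact this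
    simp only [map_mul, map_inv, map_pow]
    rw [(h1.pow_right i).eq]
    group
  have hee : (e : MonoidAlgebra k G) * e = e := congrArg Subtype.val (idem_mul_self he1 he3)
  let cs : Fin p → Set G := fun i => coset (b ^ (i : ℕ)) B₀
  have hcsA : ∀ i, ∀ a ∈ A, a * b ^ (i : ℕ) * a⁻¹ * (b ^ (i : ℕ))⁻¹ ∈ B₀ := fun i a _ => hcen i a
  have hcsinv : ∀ i, ∀ a ∈ A, ∀ s, s ∈ cs i → a * s * a⁻¹ ∈ cs i := by
    intro i a ha s (hs : (b ^ (i : ℕ))⁻¹ * s ∈ B₀)
    show (b ^ (i : ℕ))⁻¹ * (a * s * a⁻¹) ∈ B₀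
    rw [show (b ^ (i : ℕ))⁻¹ * (a * s * a⁻¹) = ((b ^ (i : ℕ))⁻¹ * (a * b ^ (i : ℕ) * a⁻¹ * (b ^ (i : ℕ))⁻¹) * b ^ (i : ℕ)) *
      (a * ((b ^ (i : ℕ))⁻¹ * s) * a⁻¹) by group]
    exact B₀.mul_mem ((inferInstance : B₀.Normal).conj_mem' _ (hcen i a) _) ((inferInstance : B₀.Normal).conj_mem _ hs a)
  -- every coset gives a line
  have hline : ∀ i, ∃ v, ∀ c ∈ W k A (cs i), c * (e : MonoidAlgebra k G) ∈ Submodule.span k {v} := by
    intro i
    by_cases hz : ∃ c ∈ W k A (cs i), c * (e : MonoidAlgebra k G) ≠ 0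
    · obtain ⟨c₀, hc₀, hc₀e⟩ := hz
      refine ⟨c₀ * e, fun c hc => ?_⟩
      have hm : ∀ v ∈ W k A (cs i), v * (e : MonoidAlgebra k G) ∈ W k A (cs i) := fun v hv =>
        mul_mem_W hv e.2 fun g (hg : (b ^ (i : ℕ))⁻¹ * g ∈ B₀) x hx => show (b ^ (i : ℕ))⁻¹ * (g * x) ∈ B₀ by
          rw [← mul_assoc]; exact B₀.mul_mem hg hx
      obtain ⟨r, hr⟩ := line (h0.trans hBA) hG _ he3 (hcsA i) (hm c₀ hc₀) (hm c hc)
        (by rw [mul_assoc, hee]) (by rw [mul_assoc, hee]) hc₀e
      rw [hr]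
      exact Submodule.smul_mem _ _ (Submodule.mem_span_singleton_self _)
    · push Not at hz
      exact ⟨0, fun c hc => by rw [hz c hc]; exact Submodule.zero_mem _⟩
  choose v hv using hline
  set M := Submodule.span k (Set.range v) with hM
  have hspan : ∀ c : Zs k A B, (c : MonoidAlgebra k G) * e ∈ M := by
    intro c
    let first : ∀ g, g ∈ B → Fin p := fun g h => Fin.find (fun i => g ∈ cs i) (hcov g h)
    let comp : Fin p → MonoidAlgebra k G := fun i => MonoidAlgebra.ofCoeff (Finsupp.equivFunOnFinite.symm fun g =>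
      if h : g ∈ B then (if first g h = i then (c : MonoidAlgebra k G).coeff g else 0) else 0)
    have hcomp : ∀ i g, (comp i).coeff g =
        if h : g ∈ B then (if first g h = i then (c : MonoidAlgebra k G).coeff g else 0) else 0 := fun i g => by
      simp [comp]
    have hfirst : ∀ a ∈ A, ∀ g (h : g ∈ B) (h' : a * g * a⁻¹ ∈ B), first _ h' = first g h := by
      intro a ha g h h'
      have key : ∀ i, a * g * a⁻¹ ∈ cs i ↔ g ∈ cs i := fun i => ⟨fun h1 => by
        have := hcsinv i a⁻¹ (inv_mem ha) _ h1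
        rwa [show a⁻¹ * (a * g * a⁻¹) * a⁻¹⁻¹ = g by group] at this, hcsinv i a ha g⟩
      simp only [first]
      congr 1
      funext i
      exact propext (key i)
    have hci : ∀ i, comp i ∈ W k A (cs i) := fun i => ⟨fun g hg => by
      rw [hcomp]
      split_ifs with h h1
      · exact absurd (h1 ▸ Fin.find_spec (p := fun j => g ∈ cs j) (hcov g h)) hg
      · rfl
      · rfl, commutes_of_coeff fun a ha g => by
      rw [hcomp, hcomp]
      by_cases h : g ∈ B
      · have h' : a * g * a⁻¹ ∈ B := (inferInstance : B.Normal).conj_mem g h a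
        rw [dif_pos h, dif_pos h', hfirst a ha g h h', coeff_conj_eq c.2 ha]
      · rw [dif_neg h, dif_neg]
        intro h'
        apply h
        have := (inferInstance : B.Normal).conj_mem' _ h' a
        rwa [show a⁻¹ * (a * g * a⁻¹) * a = g by group] at this⟩
    have hsum : (c : MonoidAlgebra k G) = ∑ i, comp i := by
      ext g
      rw [MonoidAlgebra.coeff_sum, Finsupp.finsetSum_apply]
      simp only [hcomp]
      by_cases h : g ∈ B
      · simp [h]
      · rw [c.2.1 g h]; simp [h]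
    rw [hsum, Finset.sum_mul]
    exact Submodule.sum_mem _ fun i _ => Submodule.span_mono (Set.singleton_subset_iff.2 (Set.mem_range_self i))
      (hv i _ (hci i))
  -- independent functionals
  have hfd : FiniteDimensional k (MonoidAlgebra k G) := Module.Finite.of_basis (MonoidAlgebra.basis G k)
  have hdelta : ∀ ψ : {ψ : Pts k A B // res h0 ψ = f₀}, ∃ d : Zs k A B,
      (d : MonoidAlgebra k G) ∈ M ∧ ∀ χ : {ψ : Pts k A B // res h0 ψ = f₀}, χ.1 d = if χ = ψ then 1 else 0 := by
    intro ψ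
    obtain ⟨d, hd1, hd2, -⟩ := exists_idem hBA hG ψ.1
    let e' : Zs k A B := Subalgebra.inclusion (Zs_mono h0) e
    refine ⟨d * e', hspan d, fun χ => ?_⟩
    have hχ : χ.1 e' = 1 := (congrArg (fun η : Pts k A B₀ => η e) χ.2).trans he1
    rw [map_mul, hχ, mul_one]
    split_ifs with h
    · rw [h]; exact hd1
    · exact hd2 _ fun h' => h (Subtype.ext h')
  choose d hdM hd using hdelta
  have hind : LinearIndependent k (fun ψ => (⟨(d ψ : MonoidAlgebra k G), hdM ψ⟩ : M)) := by
    rw [Fintype.linearIndependent_iff]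
    intro r hr χ
    have h1 : (∑ ψ, r ψ • d ψ) = 0 := by
      apply Subtype.ext
      have h2 := congrArg (fun x : M => (x : MonoidAlgebra k G)) hr
      simp only [AddSubmonoidClass.coe_finsetSum, Submodule.coe_smul, ZeroMemClass.coe_zero] at h2
      rw [AddSubmonoidClass.coe_finsetSum, ZeroMemClass.coe_zero]
      exact h2
    have h3 := congrArg χ.1 h1
    simpa [hd] using h3
  calc Nat.card {ψ : Pts k A B // res h0 ψ = f₀} = Fintype.card {ψ : Pts k A B // res h0 ψ = f₀} :=
        Nat.card_eq_fintype_card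
    _ ≤ Module.finrank k M := hind.fintype_card_le_finrank
    _ ≤ Fintype.card (Fin p) := finrank_range_le_card v
    _ = p := Fintype.card_fin p

/-- No point has stabiliser `A`. -/
theorem false_of_regular [hA : A.Normal] (hG : (Nat.card G : k) ≠ 0) {p : ℕ} (hp : p.Prime) (hP : IsPGroup p G)
    (hpair : IsPair' A) (hnc : ∀ x, A ⊔ Subgroup.zpowers x ≠ ⊤) (φ : Pts k A A) (hφ : stab φ ≤ A) : False := by
  classical
  let Q : Subgroup G → Prop := fun B => ∃ (hn : B.Normal) (h : B ≤ A),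
    ∀ g, (haveI := hn; act g (res h φ) = res h φ) → g ∈ A
  have hQA : Q A := ⟨hA, le_rfl, fun g hg => hφ (show act g φ = φ from by
    have hr : res (le_refl A) φ = φ := AlgHom.ext fun c => rfl
    rw [hr] at hg
    exact hg)⟩
  obtain ⟨B, hBmem, hmin⟩ := (Set.toFinite {B : Subgroup G | Q B}).exists_minimal ⟨A, hQA⟩
  obtain ⟨hn, hBA, hBst⟩ := hBmem
  haveI := hn
  have hB : B ≠ ⊥ := by
    rintro rfl
    apply hnc 1
    rw [Subgroup.zpowers_one_eq_bot, sup_bot_eq, eq_top_iff]
    intro g _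
    refine hBst g (AlgHom.ext fun c => congrArg (res hBA φ) (Subtype.ext ?_))
    show cj g (c : MonoidAlgebra k G) = c
    ext h
    rw [coeff_cj]
    by_cases h1 : h = 1
    · subst h1; simp
    · rw [c.2.1 h (by simpa using h1), c.2.1 _ (fun hm => h1 ?_)]
      rw [SetLike.mem_coe, Subgroup.mem_bot] at hm
      calc h = g * (g⁻¹ * h * g) * g⁻¹ := by group
        _ = 1 := by rw [hm, mul_one, mul_inv_cancel]
  obtain ⟨B₀, b, hn0, hlt, -, -, -, hbc, hcov⟩ := exists_step hp hP B hB
  haveI := hn0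
  set f := res hBA φ with hf
  set f₀ := res hlt.le f with hf₀
  have hS0le : A ≤ stab f₀ := le_stab f₀
  have hS0ne : A ≠ stab f₀ := by
    intro h
    have hQ0 : Q B₀ := ⟨hn0, hlt.le.trans hBA, fun g hg => by
      rw [h]
      exact hg⟩
    exact hlt.not_ge (hmin hQ0 hlt.le)
  -- the stabiliser one step down is small
  have hcardS : Nat.card (stab f₀) ≤ p * Nat.card A := by
    rw [← card_range_mul (stab f₀) A hS0le (fun g => act g f) (fun a _ c _ => by
      constructor
      · intro h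
        apply hBst
        show act (a * c⁻¹) f = f
        rw [act_mul, h, ← act_mul, mul_inv_cancel, act_one]
      · intro h
        have h1 := act_of_mem h f
        rw [act_mul] at h1
        have h2 := congrArg (act c) h1
        rwa [← act_mul, inv_mul_cancel, act_one] at h2)]
    refine Nat.mul_le_mul_right _ (le_trans ?_ (card_fibre_le hBA hlt.le hG hbc hcov f₀))
    have := finite_pts (k := k) (A := A) hBA hG
    refine Nat.card_le_card_of_injective (fun z : Set.range fun y : stab f₀ => act (y : G) f =>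
      (⟨z.1, ?_⟩ : {ψ : Pts k A B // res hlt.le ψ = f₀})) fun a b hab => Subtype.ext (congrArg (fun w : {ψ : Pts k A B // res hlt.le ψ = f₀} => w.1) hab)
    obtain ⟨_, y, rfl⟩ := z
    show res hlt.le (act (y : G) f) = f₀
    rw [← act_res]
    exact y.2
  obtain ⟨x, hx, hxA⟩ := SetLike.exists_of_lt (lt_of_le_of_ne hS0le hS0ne)
  have hle : A ⊔ Subgroup.zpowers x ≤ stab f₀ := sup_le hS0le (Subgroup.zpowers_le.2 hx)
  have hAx : A < A ⊔ Subgroup.zpowers x := lt_of_le_of_ne le_sup_left fun h =>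
    hxA (h ▸ Subgroup.mem_sup_right (Subgroup.mem_zpowers x))
  have hp1 := prime_mul_card_le hp hP hAx
  have hS0 : A ⊔ Subgroup.zpowers x = stab f₀ := Subgroup.eq_of_le_of_card_ge hle (hcardS.trans hp1)
  have hcardS' : Nat.card (stab f₀) = p * Nat.card A := le_antisymm hcardS (hS0 ▸ hp1)
  have hSC : stab f₀ ≤ modCent A x := by
    rw [← hS0]
    refine sup_le (fun a ha => mem_modCent.2 ?_) (Subgroup.zpowers_le.2 (mem_modCent.2 ?_))
    · rw [show x⁻¹ * (a * x * a⁻¹) = x⁻¹ * a * x * a⁻¹ by group]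
      exact A.mul_mem (normal_conj A x a ha) (A.inv_mem ha)
    · rw [show x⁻¹ * (x * x * x⁻¹) = 1 by group]; exact A.one_mem
  have hO := card_range_mul (modCent A x) (stab f₀) hSC (fun y => act y f₀) (fun a _ c _ => by
    constructor
    · intro h
      show act (a * c⁻¹) f₀ = f₀
      rw [act_mul, h, ← act_mul, mul_inv_cancel, act_one]
    · intro (h : act (a * c⁻¹) f₀ = f₀)
      rw [act_mul] at h
      have h2 := congrArg (act c) h
      rwa [← act_mul, inv_mul_cancel, act_one] at h2)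
  rw [hcardS', card_modCent hpair hxA] at hO
  have hO' : p * Nat.card (Set.range fun y : modCent A x => act (y : G) f₀) = Nat.card (Subgroup.centralizer ({x} : Set G)) := by
    refine Nat.eq_of_mul_eq_mul_left (Nat.card_pos (α := A)) ?_
    rw [← hO]; ring
  -- the orbit and the trivial point are fixed
  have hB₀A := hlt.le.trans hBA
  have := finite_pts (k := k) (A := A) hB₀A hG
  have hfix : Nat.card (Set.range fun y : modCent A x => act (y : G) f₀) + 1 ≤
      Nat.card {ψ : Pts k A B₀ // act x ψ = ψ} := by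
    have hmem : ∀ z : Set.range fun y : modCent A x => act (y : G) f₀, act x z.1 = z.1 := by
      rintro ⟨_, y, rfl⟩
      show act x (act (y : G) f₀) = act (y : G) f₀
      rw [← act_mul, show (y : G) * x = x * (x⁻¹ * ((y : G) * x * (y : G)⁻¹)) * y by group, act_mul, act_mul,
        mem_stab.1 hx, act_of_mem (mem_modCent.1 y.2)]
    let i : Option (Set.range fun y : modCent A x => act (y : G) f₀) → {ψ : Pts k A B₀ // act x ψ = ψ} :=
      fun o => o.elim ⟨triv k A B₀, act_triv x⟩ fun z => ⟨z.1, hmem z⟩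
    have hi : Function.Injective i := by
      have hne : ∀ z : Set.range fun y : modCent A x => act (y : G) f₀, triv k A B₀ ≠ z.1 := by
        rintro ⟨_, y, rfl⟩ h
        apply hnc x
        rw [hS0, eq_top_iff]
        intro g _
        have h1 : f₀ = triv k A B₀ := by
          have h2 := congrArg (act (y : G)⁻¹) h
          change act (y : G)⁻¹ (triv k A B₀) = act (y : G)⁻¹ (act (y : G) f₀) at h2
          rw [act_triv, ← act_mul, mul_inv_cancel, act_one] at h2
          exact h2.symm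
        show act g f₀ = f₀
        rw [h1, act_triv]
      rintro (_ | a) (_ | b) hab
      · rfl
      · exact absurd (congrArg (fun w : {ψ : Pts k A B₀ // act x ψ = ψ} => w.1) hab) (hne b)
      · exact absurd (congrArg (fun w : {ψ : Pts k A B₀ // act x ψ = ψ} => w.1) hab.symm) (hne a)
      · exact congrArg some (Subtype.ext (congrArg (fun w : {ψ : Pts k A B₀ // act x ψ = ψ} => w.1) hab))
    have h := Nat.card_le_card_of_injective i hi
    rwa [Finite.card_option] at h
  rw [card_fixed_of_pair hB₀A hG hp hP hpair hxA] at hfix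
  have hC : p * Nat.card {b : B₀ // x * (b : G) * x⁻¹ = b} ≤ Nat.card (Subgroup.centralizer ({x} : Set G)) := by
    let H : Subgroup G := B₀ ⊓ Subgroup.centralizer ({x} : Set G)
    have hlt' : H < Subgroup.centralizer ({x} : Set G) := lt_of_le_of_ne inf_le_right fun h =>
      hxA (hB₀A (h.symm ▸ (Subgroup.mem_centralizer_singleton_iff.2 rfl : x ∈ Subgroup.centralizer ({x} : Set G)) : x ∈ H).1)
    refine le_trans (Nat.mul_le_mul_left p (le_of_eq (Nat.card_congr
      { toFun := fun b => (⟨(b.1 : G), b.1.2, Subgroup.mem_centralizer_singleton_iff.2 (mul_inv_eq_iff_eq_mul.1 b.2).symm⟩ : H)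
        invFun := fun h => ⟨⟨h.1, h.2.1⟩, mul_inv_eq_iff_eq_mul.2 (Subgroup.mem_centralizer_singleton_iff.1 h.2.2).symm⟩
        left_inv := fun b => rfl
        right_inv := fun h => rfl }))) (prime_mul_card_le hp hP hlt')
  have := Nat.mul_le_mul_left p hfix
  rw [Nat.mul_add, hO', mul_one] at this
  have := hp.pos
  omega

/-- **The stabiliser of a nontrivial point is noncyclic over `A`.** -/
theorem stab_noncyclic [hA : A.Normal] (hG : (Nat.card G : k) ≠ 0) {p : ℕ} (hp : p.Prime) (hP : IsPGroup p G)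
    (hpair : IsPair' A) (hnc : ∀ x, A ⊔ Subgroup.zpowers x ≠ ⊤) (φ : Pts k A A) (hφ : φ ≠ triv k A A) (t : G) :
    A ⊔ Subgroup.zpowers t ≠ stab φ := by
  intro h
  by_cases htA : t ∈ A
  · refine false_of_regular hG hp hP hpair hnc φ ?_
    rw [← h]
    exact sup_le le_rfl (Subgroup.zpowers_le.2 htA)
  · exact false_of_cyclic hG hp hP hpair φ hφ t htA h.ge (h ▸ Subgroup.mem_sup_right (Subgroup.mem_zpowers t))

end CfsgLib.CaminaPair.Points
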