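import Mathlib.GroupTheory.Perm.Cycle.Basic
import Mathlib.LinearAlgebra.Dimension.Constructions
import Mathlib.LinearAlgebra.FiniteDimensional.Basic
import Mathlib.Algebra.BigOperators.Group.Finset.Sigma
import Mathlib.Tactic

/-!
# Counting fixed points and orbits

Two permutations of `p`-power order which are linearly equivalent have equally many fixed points, in any
characteristic.
-/

set_option autoImplicit false

namespace CfsgLib.CaminaPair.Count

open Equiv

variable {k : Type*} [Field k]

/-- The quotient of a permutation's domain by its cycles. -/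
abbrev Cyc {X : Type*} (σ : Perm X) := Quotient (Perm.SameCycle.setoid σ)

/-- The invariant functions of a permutation. -/
def invFun (k : Type*) [Field k] {X : Type*} (σ : Perm X) : Submodule k (X → k) where
  carrier := {f | ∀ x, f (σ x) = f x}
  add_mem' hf hg x := by simp only [Pi.add_apply, hf x, hg x]
  zero_mem' x := rfl
  smul_mem' c f hf x := by simp only [Pi.smul_apply, hf x]

theorem const_of_sameCycle {X : Type*} [Finite X] {σ : Perm X} {f : X → k} (hf : f ∈ invFun k σ) {x y : X}
    (h : σ.SameCycle x y) : f x = f y := by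
  obtain ⟨n, rfl⟩ := h.exists_nat_pow_eq
  induction n with
  | zero => simp
  | succ n ih => rw [pow_succ', Perm.mul_apply, hf, ← ih ⟨n, by simp⟩]

theorem finrank_invFun {X : Type*} [Finite X] (σ : Perm X) :
    Module.finrank k (invFun k σ) = Nat.card (Cyc σ) := by
  classical
  let L : (Cyc σ → k) →ₗ[k] invFun k σ :=
    { toFun := fun f => ⟨fun x => f (Quotient.mk _ x), fun x => congrArg f (Quotient.sound
        (show σ.SameCycle (σ x) x from ((Perm.SameCycle.refl σ x).symm.trans ⟨1, by simp⟩).symm))⟩
      map_add' := fun _ _ => rfl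
      map_smul' := fun _ _ => rfl }
  have hL : Function.Bijective L := by
    refine ⟨fun f g h => funext fun q => ?_, fun f => ?_⟩
    · induction q using Quotient.inductionOn with
      | h x => exact congrFun (congrArg Subtype.val h) x
    · refine ⟨Quotient.lift f.1 fun a b hab => const_of_sameCycle f.2 hab, Subtype.ext rfl⟩
  have := Fintype.ofFinite (Cyc σ)
  rw [← (LinearEquiv.ofBijective L hL).finrank_eq, Module.finrank_pi, Nat.card_eq_fintype_card]

theorem fixed_of_pow {X : Type*} {σ : Perm X} {p : ℕ} (hp : p.Prime) {N : ℕ} (hN : σ ^ p ^ N = 1)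
    {x : X} {i : ℤ} (hi : ¬ (p : ℤ) ∣ i) (h : (σ ^ i) x = x) : σ x = x := by
  have hcop : IsCoprime i ((p : ℤ) ^ N) :=
    (((Nat.prime_iff_prime_int.1 hp).coprime_iff_not_dvd.2 hi).symm).pow_right
  obtain ⟨a, b, hab⟩ := hcop
  have h1 : (σ ^ (a * i)) x = x := by rw [mul_comm, zpow_mul]; exact Perm.zpow_apply_eq_self_of_apply_eq_self h a
  have h2 : σ ^ (b * (p : ℤ) ^ N) = 1 := by
    rw [mul_comm, zpow_mul, ← Nat.cast_pow, zpow_natCast, hN, one_zpow]
  calc σ x = (σ ^ (a * i + b * (p : ℤ) ^ N)) x := by rw [hab, zpow_one]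
    _ = x := by rw [zpow_add, h2, mul_one, h1]

theorem card_cyc_pow {X : Type*} [Finite X] (σ : Perm X) {p : ℕ} (hp : p.Prime) {N : ℕ} (hN : σ ^ p ^ N = 1) :
    Nat.card (Cyc (σ ^ p)) + (p - 1) * Nat.card {x : X // σ x = x} = p * Nat.card (Cyc σ) := by
  classical
  have := Fintype.ofFinite X
  have := Fintype.ofFinite (Cyc σ)
  have := Fintype.ofFinite (Cyc (σ ^ p))
  have hp0 : (p : ℤ) ≠ 0 := Nat.cast_ne_zero.2 hp.ne_zero
  let q : Cyc (σ ^ p) → Cyc σ := Quotient.map (fun x => x) fun a b h => Perm.SameCycle.of_pow h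
  have hmk : ∀ x, q (Quotient.mk _ x) = Quotient.mk _ x := fun x => rfl
  let isFix : Cyc σ → Prop := fun c => ∃ x, σ x = x ∧ Quotient.mk _ x = c
  have hfib : ∀ c, Nat.card {d // q d = c} = if isFix c then 1 else p := by
    intro c
    induction c using Quotient.inductionOn with
    | h x =>
    split_ifs with hf
    · obtain ⟨y, hy, hyx⟩ := hf
      have hxy : σ.SameCycle y x := Quotient.exact hyx
      have hxeq : y = x := hxy.eq_of_left hy
      subst hxeq
      rw [Nat.card_eq_one_iff_exists]
      refine ⟨⟨Quotient.mk _ y, rfl⟩, ?_⟩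
      rintro ⟨d, hd⟩
      induction d using Quotient.inductionOn with
      | h z =>
        have h1 : σ.SameCycle z y := Quotient.exact hd
        have h2 : z = y := (h1.symm.eq_of_left hy).symm
        subst h2
        rfl
    · have hne : σ x ≠ x := fun h => hf ⟨x, h, rfl⟩
      have hbij : Function.Bijective (fun i : Fin p => (⟨Quotient.mk _ ((σ ^ (i : ℕ)) x), by
          rw [hmk]; exact Quotient.sound (Perm.sameCycle_pow_left.2 (Perm.SameCycle.refl _ _))⟩ :
          {d // q d = Quotient.mk _ x})) := by
        constructor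
        · intro i j hij
          obtain ⟨m, hm⟩ : (σ ^ p).SameCycle ((σ ^ (i : ℕ)) x) ((σ ^ (j : ℕ)) x) :=
            Quotient.exact (congrArg Subtype.val hij)
          rw [← zpow_natCast σ p, ← zpow_mul, ← zpow_natCast σ i, ← zpow_natCast σ j, ← Perm.mul_apply,
            ← zpow_add] at hm
          have h1 : (σ ^ ((p : ℤ) * m + i - j)) x = x := by
            rw [show (p : ℤ) * m + i - j = -(j : ℤ) + ((p : ℤ) * m + i) by ring, zpow_add, Perm.mul_apply, hm,
              ← Perm.mul_apply, ← zpow_add, neg_add_cancel, zpow_zero, Perm.one_apply]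
          by_contra hne'
          refine hne (fixed_of_pow hp hN (fun hd => hne' ?_) h1)
          have h2 : (p : ℤ) ∣ (i : ℤ) - j := by
            have := dvd_sub hd (dvd_mul_right (p : ℤ) m)
            rwa [show (p : ℤ) * m + i - j - p * m = (i : ℤ) - j by ring] at this
          have hi : ((i : ℕ) : ℤ) < p := by exact_mod_cast i.2
          have hj : ((j : ℕ) : ℤ) < p := by exact_mod_cast j.2
          have h3 : ((i : ℕ) : ℤ) - (j : ℕ) = 0 := Int.eq_zero_of_dvd_of_natAbs_lt_natAbs h2 (by omega)
          exact Fin.ext (by omega)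
        · rintro ⟨d, hd⟩
          induction d using Quotient.inductionOn with
          | h z =>
            obtain ⟨n, hn⟩ := (Quotient.exact hd : σ.SameCycle z x).symm.exists_nat_pow_eq
            refine ⟨⟨n % p, Nat.mod_lt _ hp.pos⟩, Subtype.ext (Quotient.sound ?_)⟩
            refine ⟨((n / p : ℕ) : ℤ), ?_⟩
            rw [zpow_natCast, ← pow_mul, ← Perm.mul_apply, ← pow_add, Nat.add_comm, Nat.mod_add_div, hn]
      rw [← Nat.card_eq_of_bijective _ hbij, Nat.card_eq_fintype_card, Fintype.card_fin]
  have hF : Nat.card {c // isFix c} = Nat.card {x : X // σ x = x} := by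
    refine (Nat.card_eq_of_bijective (fun x => (⟨Quotient.mk _ x.1, x.1, x.2, rfl⟩ : {c // isFix c})) ⟨?_, ?_⟩).symm
    · intro a b h
      exact Subtype.ext ((Quotient.exact (congrArg Subtype.val h) : σ.SameCycle a.1 b.1).eq_of_left a.2)
    · rintro ⟨c, y, hy, rfl⟩
      exact ⟨⟨y, hy⟩, rfl⟩
  rw [← Nat.card_congr (Equiv.sigmaFiberEquiv q), Nat.card_sigma, ← hF, Nat.card_eq_fintype_card,
    Nat.card_eq_fintype_card, Fintype.card_subtype]
  rw [Finset.sum_congr rfl (fun c _ => hfib c), Finset.sum_ite, Finset.sum_const, Finset.sum_const, smul_eq_mul,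
    smul_eq_mul, mul_one]
  have h0 : (Finset.univ.filter isFix).card + (Finset.univ.filter fun c => ¬ isFix c).card = Fintype.card (Cyc σ) :=
    Finset.card_filter_add_card_filter_not _
  rw [← h0, Nat.mul_add]
  obtain ⟨m, hm⟩ : ∃ m, p = m + 1 := ⟨p - 1, by have := hp.pos; omega⟩
  subst hm
  simp only [Nat.add_sub_cancel]
  ring

/-- Linearly equivalent permutations of `p`-power order have equally many fixed points. -/
theorem card_fixed_eq {X Y : Type*} [Finite X] [Finite Y] (σ : Perm X) (π : Perm Y) {p : ℕ} (hp : p.Prime)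
    {N : ℕ} (hσ : σ ^ p ^ N = 1) (hπ : π ^ p ^ N = 1) (L : (X → k) ≃ₗ[k] (Y → k))
    (hL : ∀ f y, L (fun x => f (σ x)) y = L f (π y)) :
    Nat.card {x : X // σ x = x} = Nat.card {y : Y // π y = y} := by
  have hpow : ∀ j f y, L (fun x => f ((σ ^ j) x)) y = L f ((π ^ j) y) := by
    intro j
    induction j with
    | zero => intro f y; simp
    | succ j ih =>
      intro f y
      rw [pow_succ, pow_succ, Perm.mul_apply, ← ih]
      exact hL (fun x => f ((σ ^ j) x)) y
  have hcyc : ∀ j, Nat.card (Cyc (σ ^ j)) = Nat.card (Cyc (π ^ j)) := by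
    intro j
    rw [← finrank_invFun (k := k) (σ ^ j), ← finrank_invFun (k := k) (π ^ j)]
    have hmap : (invFun k (σ ^ j)).map L.toLinearMap = invFun k (π ^ j) := by
      ext f
      constructor
      · rintro ⟨f, hf, rfl⟩ y
        show L f _ = L f y
        rw [← hpow j f y]
        exact congrArg (fun t => L t y) (funext hf)
      · intro hf
        refine ⟨L.symm f, fun x => ?_, L.apply_symm_apply f⟩
        have : (fun x => L.symm f ((σ ^ j) x)) = L.symm f := by
          apply L.injective
          funext y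
          rw [hpow, L.apply_symm_apply]
          exact hf y
        exact congrFun this x
    rw [← hmap, LinearEquiv.finrank_map_eq]
  have h1 := card_cyc_pow σ hp hσ
  have h2 := card_cyc_pow π hp hπ
  have e1 := hcyc p
  have e2 : Nat.card (Cyc σ) = Nat.card (Cyc π) := by simpa only [pow_one] using hcyc 1
  have h3 : (p - 1) * Nat.card {x : X // σ x = x} = (p - 1) * Nat.card {y : Y // π y = y} := by
    rw [← e2, ← e1] at h2
    omega
  exact Nat.eq_of_mul_eq_mul_left (by have := hp.two_le; omega) h3

end CfsgLib.CaminaPair.Count
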