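import Cfsg.Agent.Lib.Transfer.PGroup
import Mathlib.RingTheory.RootsOfUnity.PrimitiveRoots
import Mathlib.LinearAlgebra.Eigenspace.Triangularizable
import Mathlib.Data.Nat.Choose.Dvd
import Mathlib.FieldTheory.IsAlgClosed.Basic
import Mathlib.Tactic

/-!
# A fixed vector outside a normal subgroup acting homogeneously

If a `p`-group `R` (`p` odd) acts on a space so that the enveloping algebra of the normal subgroup `A`
has scalar centre, and `R/A` contains a noncyclic subgroup of order `p ^ 2`, then some element outside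
`A` fixes a nonzero vector.
-/

set_option autoImplicit false
set_option linter.unusedSectionVars false
set_option linter.style.haveILetI false

namespace CfsgLib.CaminaPair.Descent

universe u v

variable {k : Type*} [Field k]

theorem pow_skew {E : Type*} [Ring E] [Algebra k E] {X Y : E} {μ : k} (h : Y * X = μ • (X * Y)) (n : ℕ) :
    Y ^ n * X = μ ^ n • (X * Y ^ n) := by
  induction n with
  | zero => simp
  | succ n ih => rw [pow_succ' Y, mul_assoc, ih, mul_smul_comm, ← mul_assoc, h, smul_mul_assoc, smul_smul, mul_assoc, pow_succ μ]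

theorem mul_pow_skew {E : Type*} [Ring E] [Algebra k E] {X Y : E} {μ : k} (h : Y * X = μ • (X * Y)) (n : ℕ) :
    (X * Y) ^ n = μ ^ n.choose 2 • (X ^ n * Y ^ n) := by
  induction n with
  | zero => simp
  | succ n ih =>
    rw [pow_succ (X * Y), ih, smul_mul_assoc, ← mul_assoc, mul_assoc (X ^ n) (Y ^ n) X, pow_skew h, mul_smul_comm,
      smul_mul_assoc, smul_smul, Nat.choose_succ_succ', Nat.choose_one_right, pow_add, mul_comm (μ ^ n), pow_succ X,
      pow_succ Y]
    simp only [mul_assoc]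

theorem geom_zero {p : ℕ} {ζ : k} (hζ : ζ ^ p = 1) (h1 : ζ ≠ 1) : ∑ j ∈ Finset.range p, ζ ^ j = 0 := by
  have h := geom_sum_mul ζ p
  rw [hζ, sub_self] at h
  exact (mul_eq_zero.1 h).resolve_right (sub_ne_zero.2 h1)

variable [IsAlgClosed k]

/-- The scalar case. -/
theorem scalar_case {R : Type u} [Group R] [Finite R] (A : Subgroup R) [A.Normal] {W : Type v} [AddCommGroup W]
    [Module k W] [FiniteDimensional k W] [Nontrivial W] {p : ℕ} (hp : p.Prime) (hodd : p ≠ 2) (hk : (p : k) ≠ 0)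
    (hP : IsPGroup p R) (ρ : R →* Module.End k W) (c : R → k) (hc : ∀ a ∈ A, ρ a = c a • (1 : Module.End k W))
    {x y : R} (hxp : x ^ p ∈ A) (hyp : y ^ p ∈ A) (hxy : x * y * x⁻¹ * y⁻¹ ∈ A) (hy : y ∉ A)
    (hx : ∀ i : ℕ, x * y ^ i ∉ A) : ∃ g, g ∉ A ∧ ∃ w : W, w ≠ 0 ∧ ρ g w = w := by
  classical
  obtain ⟨w₀, hw₀⟩ := exists_ne (0 : W)
  have hinj : ∀ {a b : k}, a • (1 : Module.End k W) = b • 1 → a = b := fun {a b} h => by
    have h1 := LinearMap.congr_fun h w₀
    simp only [LinearMap.smul_apply, Module.End.one_apply] at h1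
    exact smul_left_injective k hw₀ h1
  have hunit : ∀ g : R, ρ g * ρ g⁻¹ = 1 := fun g => by rw [← map_mul, mul_inv_cancel, map_one]
  have hne0 : ∀ g : R, ρ g ≠ 0 := fun g h => by
    have h1 := hunit g
    rw [h, zero_mul] at h1
    exact hw₀ (by simpa using (LinearMap.congr_fun h1 w₀).symm)
  have hc1 : c 1 = 1 := hinj (by rw [← hc 1 A.one_mem, map_one, one_smul])
  have hcm : ∀ a ∈ A, ∀ b ∈ A, c (a * b) = c a * c b := fun a ha b hb => hinj (by
    rw [← hc _ (A.mul_mem ha hb), map_mul, hc a ha, hc b hb, smul_mul_assoc, one_mul, smul_smul])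
  have hcp : ∀ a ∈ A, ∀ n : ℕ, c (a ^ n) = c a ^ n := by
    intro a ha n
    induction n with
    | zero => rw [pow_zero, pow_zero, hc1]
    | succ n ih => rw [pow_succ, pow_succ, hcm _ (A.pow_mem ha n) _ ha, ih]
  have hcne : ∀ a ∈ A, c a ≠ 0 := fun a ha h => hne0 a (by rw [hc a ha, h, zero_smul])
  -- commutation
  set μ := c (y * x * y⁻¹ * x⁻¹)
  have hyx : y * x * y⁻¹ * x⁻¹ ∈ A := by
    have := A.inv_mem hxy
    rwa [show (x * y * x⁻¹ * y⁻¹)⁻¹ = y * x * y⁻¹ * x⁻¹ by group] at this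
  have hskew : ρ y * ρ x = μ • (ρ x * ρ y) := by
    rw [← map_mul, show y * x = y * x * y⁻¹ * x⁻¹ * (x * y) by group, map_mul, hc _ hyx, map_mul, smul_mul_assoc, one_mul]
  have hμp : μ ^ p = 1 := by
    have h := pow_skew hskew p
    rw [← map_pow, hc _ hyp, smul_mul_assoc, mul_smul_comm, one_mul, mul_one, smul_smul] at h
    have h' : (c (y ^ p) - μ ^ p * c (y ^ p)) • ρ x = 0 := by rw [sub_smul, ← h, sub_self]
    have h'' := (smul_eq_zero.1 h').resolve_right (hne0 x)
    rw [sub_eq_zero] at h''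
    exact (mul_eq_right₀ (hcne _ hyp)).1 h''.symm
  by_cases htriv : ∀ a ∈ A, c a = 1
  · -- trivial scalars: norms
    by_contra hno
    push Not at hno
    have hcomm : Commute (ρ x) (ρ y) := by
      have := hskew
      rw [show μ = 1 from htriv _ hyx, one_smul] at this
      exact this.symm
    have hnorm : ∀ g : R, g ∉ A → g ^ p ∈ A → ∀ w, ∑ j ∈ Finset.range p, (ρ g ^ j) w = 0 := by
      intro g hg hgp w
      by_contra hne
      refine hno g hg _ hne ?_
      have h2 : ρ g ^ p = 1 := by rw [← map_pow, hc _ hgp, htriv _ hgp, one_smul]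
      have h1 : ρ g (∑ j ∈ Finset.range p, (ρ g ^ j) w) = ∑ j ∈ Finset.range p, (ρ g ^ (j + 1)) w := by
        rw [map_sum]
        refine Finset.sum_congr rfl fun j _ => ?_
        rw [pow_succ', Module.End.mul_apply]
      rw [h1]
      have h3 := Finset.sum_range_succ' (fun j => (ρ g ^ j) w) p
      rw [Finset.sum_range_succ, h2, pow_zero] at h3
      exact (add_right_cancel h3).symm
    have hpow : ∀ i : ℕ, (x * y ^ i) ^ p ∈ A := by
      intro i
      rw [← QuotientGroup.eq_one_iff, ← QuotientGroup.mk'_apply, map_pow, map_mul, map_pow]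
      have hcq : Commute (QuotientGroup.mk' A x) (QuotientGroup.mk' A y) := by
        have := (QuotientGroup.eq_one_iff (N := A) _).2 hxy
        rw [← QuotientGroup.mk'_apply, map_mul, map_mul, map_mul, map_inv, map_inv, mul_inv_eq_one, mul_inv_eq_iff_eq_mul] at this
        exact this
      rw [(hcq.pow_right i).mul_pow, ← map_pow, ← pow_mul, mul_comm, pow_mul, ← map_pow (QuotientGroup.mk' A) y p,
        (QuotientGroup.eq_one_iff _).2 hxp |> fun h => (show QuotientGroup.mk' A (x ^ p) = 1 from h),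
        show QuotientGroup.mk' A (y ^ p) = 1 from (QuotientGroup.eq_one_iff _).2 hyp, one_pow, one_mul]
    have hsum : ∑ j ∈ Finset.range p, ∑ i ∈ Finset.range p, (ρ (x * y ^ i) ^ j) w₀ = 0 := by
      rw [Finset.sum_comm]
      exact Finset.sum_eq_zero fun i _ => hnorm _ (hx i) (hpow i) w₀
    rw [Finset.sum_eq_single 0] at hsum
    · simp only [pow_zero, Module.End.one_apply, Finset.sum_const, Finset.card_range] at hsum
      rw [← Nat.cast_smul_eq_nsmul k] at hsum
      exact hw₀ ((smul_eq_zero.1 hsum).resolve_left hk)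
    · intro j hj hj0
      have hjp : ¬ p ∣ j := fun h => absurd (Nat.le_of_dvd (Nat.pos_of_ne_zero hj0) h) (not_le.2 (Finset.mem_range.1 hj))
      have hYp : ρ y ^ p = 1 := by rw [← map_pow, hc _ hyp, htriv _ hyp, one_smul]
      have e : ∀ i, (ρ (x * y ^ i) ^ j) w₀ = (ρ x ^ j) ((ρ y ^ (i * j % p)) w₀) := fun i => by
        rw [map_mul, map_pow, (hcomm.pow_right i).mul_pow, ← pow_mul, pow_eq_pow_mod (i * j) hYp, Module.End.mul_apply]
      simp only [e, ← map_sum]
      have h0 : ∑ i ∈ Finset.range p, (ρ y ^ (i * j % p)) w₀ = ∑ i ∈ Finset.range p, (ρ y ^ i) w₀ := by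
        have hcop : p.Coprime j := hp.coprime_iff_not_dvd.2 hjp
        refine Finset.sum_nbij (fun i => i * j % p) (fun i _ => Finset.mem_range.2 (Nat.mod_lt _ hp.pos)) ?_ ?_ (fun i _ => rfl)
        · intro i hi i' hi' he
          rw [Finset.mem_coe, Finset.mem_range] at hi hi'
          exact Nat.ModEq.eq_of_lt_of_lt (Nat.ModEq.cancel_right_of_coprime hcop he) hi hi'
        · intro l hl
          rw [Finset.mem_coe, Finset.mem_range] at hl
          obtain ⟨d, -, hd⟩ := Nat.exists_mul_mod_eq_one_of_coprime hcop.symm hp.one_lt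
          refine ⟨l * d % p, Finset.mem_coe.2 (Finset.mem_range.2 (Nat.mod_lt _ hp.pos)), ?_⟩
          show l * d % p * j % p = l
          rw [Nat.mod_mul_mod, mul_assoc, mul_comm d j, Nat.mul_mod, hd, mul_one, Nat.mod_mod, Nat.mod_eq_of_lt hl]
      rw [h0, hnorm y hy hyp, map_zero]
    · intro h; exact absurd (Finset.mem_range.2 hp.pos) h
  · push Not at htriv
    obtain ⟨a₀, ha₀, ha₀1⟩ := htriv
    -- a generator of the scalars
    obtain ⟨as, has, hmax⟩ := Set.exists_max_image (A : Set R) (fun a => orderOf (c a)) (Set.toFinite _) ⟨1, A.one_mem⟩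
    have hord : ∀ a ∈ A, ∃ i, orderOf (c a) = p ^ i := by
      intro a ha
      obtain ⟨N, hN⟩ := hP a
      obtain ⟨i, -, hi⟩ := (Nat.dvd_prime_pow hp).1 (orderOf_dvd_of_pow_eq_one (show c a ^ p ^ N = 1 by
        rw [← hcp a ha, hN, hc1]))
      exact ⟨i, hi⟩
    obtain ⟨M, hM⟩ := hord as has
    have hM0 : M ≠ 0 := by
      rintro rfl
      have := hmax a₀ ha₀
      rw [hM, pow_zero] at this
      obtain ⟨i, hi⟩ := hord a₀ ha₀
      rw [hi] at this
      rcases Nat.eq_zero_or_pos i with rfl | h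
      · exact ha₀1 (orderOf_eq_one_iff.1 (by rw [hi, pow_zero]))
      · have := Nat.one_lt_pow h.ne' hp.one_lt
        omega
    have hprim : IsPrimitiveRoot (c as) (p ^ M) := hM ▸ IsPrimitiveRoot.orderOf (c as)
    have hgen : ∀ z : k, z ^ p ^ M = 1 → ∃ i, z = c (as ^ i) := by
      intro z hz
      haveI : NeZero (p ^ M) := ⟨pow_ne_zero _ hp.ne_zero⟩
      obtain ⟨i, -, hi⟩ := hprim.eq_pow_of_pow_eq_one hz
      exact ⟨i, by rw [hcp as has, hi]⟩
    have hin : ∀ a ∈ A, ∃ i, c a = c as ^ i := by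
      intro a ha
      obtain ⟨i, hi⟩ := hord a ha
      have hiM : i ≤ M := by
        have := hmax a ha
        rw [hi, hM] at this
        exact (Nat.pow_le_pow_iff_right hp.one_lt).1 this
      obtain ⟨j, hj⟩ := hgen (c a) (orderOf_dvd_iff_pow_eq_one.1 (hi ▸ pow_dvd_pow p hiM))
      exact ⟨j, by rw [hj, hcp as has]⟩
    -- an element whose power is a power of a scalar
    have key : ∃ g, g ∉ A ∧ ∃ n : ℕ, ρ g ^ p = (c as ^ n) ^ p • (1 : Module.End k W) := by
      obtain ⟨u, hu⟩ := hin _ hxp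
      obtain ⟨v, hv⟩ := hin _ hyp
      by_cases hpv : p ∣ v
      · obtain ⟨n, rfl⟩ := hpv
        exact ⟨y, hy, n, by rw [← map_pow, hc _ hyp, hv, ← pow_mul, mul_comm]⟩
      · haveI := Fact.mk hp
        have hv0 : (v : ZMod p) ≠ 0 := fun h => hpv ((ZMod.natCast_eq_zero_iff v p).1 h)
        set i := (-(u : ZMod p) * (v : ZMod p)⁻¹).val
        have hdiv : p ∣ u + v * i := by
          rw [← ZMod.natCast_eq_zero_iff, Nat.cast_add, Nat.cast_mul, ZMod.natCast_zmod_val]
          field_simp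
          ring
        obtain ⟨n, hn⟩ := hdiv
        refine ⟨x * y ^ i, hx i, n, ?_⟩
        rw [map_mul, map_pow, mul_pow_skew (pow_skew hskew i), ← pow_mul μ]
        have hch : μ ^ (i * p.choose 2) = 1 := by
          obtain ⟨m, hm⟩ := hp.dvd_choose_self two_ne_zero (lt_of_le_of_ne hp.two_le (Ne.symm hodd))
          rw [hm, mul_left_comm, pow_mul, hμp, one_pow]
        rw [hch, one_smul, ← pow_mul (ρ y), mul_comm i p, pow_mul, ← map_pow ρ, ← map_pow ρ, hc _ hxp, hc _ hyp,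
          smul_pow, one_pow, smul_mul_assoc, one_mul, smul_smul, hu, hv, ← pow_mul, ← pow_add, hn, ← pow_mul, mul_comm p n]
    obtain ⟨g, hgA, n, hg⟩ := key
    obtain ⟨ζ, hζ⟩ := Module.End.exists_eigenvalue (ρ g)
    obtain ⟨w, hw⟩ := hζ.exists_hasEigenvector
    have hpw : ∀ m : ℕ, (ρ g ^ m) w = ζ ^ m • w := by
      intro m
      induction m with
      | zero => simp
      | succ m ih => rw [pow_succ, Module.End.mul_apply, hw.apply_eq_smul, map_smul, ih, smul_smul, ← pow_succ']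
    have hζp : ζ ^ p = (c as ^ n) ^ p := by
      have h := hpw p
      rw [hg, LinearMap.smul_apply, Module.End.one_apply] at h
      exact (smul_left_injective k hw.2 h).symm
    have hca : c as ^ n ≠ 0 := pow_ne_zero _ (hcne as has)
    obtain ⟨i, hi⟩ : ∃ i, ζ / c as ^ n = c (as ^ i) := hgen _ (by
      have h1 : (ζ / c as ^ n) ^ p = 1 := by rw [div_pow, hζp, div_self (pow_ne_zero _ hca)]
      obtain ⟨M', rfl⟩ : ∃ M', M = M' + 1 := ⟨M - 1, by omega⟩
      rw [pow_succ', pow_mul, h1, one_pow])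
    have ham : as ^ (n + i) ∈ A := A.pow_mem has _
    refine ⟨g * (as ^ (n + i))⁻¹, fun h => hgA (by simpa using A.mul_mem h ham), w, hw.2, ?_⟩
    rw [map_mul, Module.End.mul_apply]
    have h1 : ρ (as ^ (n + i))⁻¹ w = (c (as ^ (n + i)))⁻¹ • w := by
      have h2 : c ((as ^ (n + i))⁻¹) = (c (as ^ (n + i)))⁻¹ := by
        refine eq_inv_of_mul_eq_one_left ?_
        rw [← hcm _ (A.inv_mem ham) _ ham, inv_mul_cancel, hc1]
      rw [hc _ (A.inv_mem ham), LinearMap.smul_apply, Module.End.one_apply, h2]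
    rw [h1, map_smul, hw.apply_eq_smul, smul_smul]
    have h3 : ζ = c (as ^ (n + i)) := by
      rw [hcp as has, pow_add, ← hcp as has i, ← hi, mul_div_cancel₀ _ hca]
    rw [← h3, inv_mul_cancel₀ (fun h0 => by rw [h3] at h0; exact hcne _ ham h0), one_smul]

theorem span_mul_mem {R : Type u} [Group R] {W : Type v} [AddCommGroup W] [Module k W] (ρ : R →* Module.End k W)
    (A : Subgroup R) {c d : Module.End k W} (hc : c ∈ Submodule.span k (ρ '' A)) (hd : d ∈ Submodule.span k (ρ '' A)) :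
    c * d ∈ Submodule.span k (ρ '' A) := by
  have h := Submodule.mul_mem_mul hc hd
  rw [Submodule.span_mul_span] at h
  refine Submodule.span_mono ?_ h
  rintro _ ⟨_, ⟨a, ha, rfl⟩, _, ⟨b, hb, rfl⟩, rfl⟩
  exact ⟨a * b, A.mul_mem ha hb, map_mul ρ a b⟩

/-- A fixed vector outside `A`. -/
theorem exists_fixed {p : ℕ} (hp : p.Prime) (hodd : p ≠ 2) (hk : (p : k) ≠ 0) :
    ∀ (n : ℕ) (R : Type u) [Group R] [Finite R] (A : Subgroup R) [A.Normal] (W : Type v) [AddCommGroup W]
      [Module k W] [FiniteDimensional k W] [Nontrivial W] (_ : Module.finrank k W ≤ n) (_ : IsPGroup p R)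
      (ρ : R →* Module.End k W)
      (_ : ∀ c ∈ Submodule.span k (ρ '' A), (∀ a ∈ A, Commute c (ρ a)) → ∃ γ : k, c = γ • (1 : Module.End k W))
      (x y : R), x ^ p ∈ A → y ^ p ∈ A → x * y * x⁻¹ * y⁻¹ ∈ A → y ∉ A → (∀ i : ℕ, x * y ^ i ∉ A) →
      ∃ g, g ∉ A ∧ ∃ w : W, w ≠ 0 ∧ ρ g w = w := by
  intro n
  induction n with
  | zero =>
    intro R _ _ A _ W _ _ _ _ hn
    exact absurd hn (by have := Module.finrank_pos (R := k) (M := W); omega)
  | succ n ih =>
  intro R _ _ A hA W _ _ _ _ hn hP ρ hcent x y hxp hyp hxy hy hx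
  classical
  haveI := Fact.mk hp
  by_cases hscal : ∀ a ∈ A, ∃ t : k, ρ a = t • (1 : Module.End k W)
  · choose c hc using hscal
    exact scalar_case A hp hodd hk hP ρ (fun a => if h : a ∈ A then c a h else 0)
      (fun a ha => by rw [dif_pos ha]; exact hc a ha) hxp hyp hxy hy hx
  have hu : ∀ r : R, ρ r * ρ r⁻¹ = 1 ∧ ρ r⁻¹ * ρ r = 1 := fun r =>
    ⟨by rw [← map_mul, mul_inv_cancel, map_one], by rw [← map_mul, inv_mul_cancel, map_one]⟩
  obtain ⟨w₀, hw₀⟩ := exists_ne (0 : W)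
  have hne0 : ∀ g : R, ρ g ≠ 0 := fun g h => by
    have h1 := (hu g).1
    rw [h, zero_mul] at h1
    exact hw₀ (by simpa using (LinearMap.congr_fun h1 w₀).symm)
  -- the scalar part
  let K : Subgroup R :=
    { carrier := {a | a ∈ A ∧ ∃ t : k, ρ a = t • (1 : Module.End k W)}
      one_mem' := ⟨A.one_mem, 1, by rw [map_one, one_smul]⟩
      mul_mem' := fun {a b} ⟨ha, s, hs⟩ ⟨hb, t, ht⟩ => ⟨A.mul_mem ha hb, s * t, by
        rw [map_mul, hs, ht, smul_mul_assoc, one_mul, smul_smul]⟩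
      inv_mem' := fun {a} ⟨ha, s, hs⟩ => ⟨A.inv_mem ha, s⁻¹, by
        have h1 := (hu a).1
        rw [hs, smul_mul_assoc, one_mul] at h1
        have hs0 : s ≠ 0 := fun h => hne0 a (by rw [hs, h, zero_smul])
        conv_rhs => rw [← h1]
        rw [inv_smul_smul₀ hs0]⟩ }
  have hKA : K ≤ A := fun a ha => ha.1
  have hKn : K.Normal := ⟨fun a ha r => ⟨hA.conj_mem a ha.1 r, by
    obtain ⟨t, ht⟩ := ha.2
    exact ⟨t, by rw [map_mul, map_mul, ht, mul_smul_comm, mul_one, smul_mul_assoc, (hu r).1]⟩⟩⟩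
  haveI : Group.IsNilpotent (R ⧸ K) := (hP.to_quotient K).isNilpotent
  set q := QuotientGroup.mk' K with hq
  haveI : (A.map q).Normal := hA.map q (QuotientGroup.mk'_surjective _)
  have hne : A.map q ≠ ⊥ := by
    rw [ne_eq, Subgroup.map_eq_bot_iff, hq, QuotientGroup.ker_mk']
    exact fun h => hscal fun a ha => (h ha).2
  have hcne := CfsgLib.Transfer.inf_center_ne_bot hne
  obtain ⟨z, hz⟩ := exists_prime_orderOf_dvd_card' (G := (A.map q ⊓ Subgroup.center (R ⧸ K) : Subgroup (R ⧸ K))) p (by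
    obtain ⟨i, hi⟩ := IsPGroup.iff_card.1 ((hP.to_quotient K).to_subgroup (A.map q ⊓ Subgroup.center (R ⧸ K)))
    rw [hi]
    refine dvd_pow_self p fun h0 => hcne ?_
    rw [h0, pow_zero] at hi
    exact Subgroup.card_eq_one.1 hi)
  obtain ⟨u, huA, huz⟩ := Subgroup.mem_map.1 z.2.1
  have hcentral : ∀ r : R, r * u * r⁻¹ * u⁻¹ ∈ K := fun r => by
    rw [← QuotientGroup.eq_one_iff, ← QuotientGroup.mk'_apply, ← hq, map_mul, map_mul, map_mul, map_inv, map_inv,
      huz, Subgroup.mem_center_iff.1 z.2.2 (q r)]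
    group
  have hup : u ^ p ∈ K := by
    rw [← QuotientGroup.eq_one_iff, ← QuotientGroup.mk'_apply, ← hq, map_pow, huz, ← hz, ← SubgroupClass.coe_pow,
      pow_orderOf_eq_one, OneMemClass.coe_one]
  have huns : ∀ t : k, ρ u ≠ t • (1 : Module.End k W) := fun t h => by
    have h1 : orderOf (z : R ⧸ K) = p := by rw [Subgroup.orderOf_coe, hz]
    rw [← huz, show q u = 1 from (QuotientGroup.eq_one_iff u).2 ⟨huA, t, h⟩, orderOf_one] at h1
    exact hp.one_lt.ne h1
  set U := ρ u with hU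
  have hlam : ∀ r : R, ∃ t : k, ρ r * U = t • (U * ρ r) := by
    intro r
    obtain ⟨t, ht⟩ := (hcentral r).2
    refine ⟨t, ?_⟩
    rw [hU, ← map_mul, ← map_mul, show r * u = r * u * r⁻¹ * u⁻¹ * (u * r) by group, map_mul, ht, smul_mul_assoc, one_mul]
  choose lam hlam using hlam
  have hUr : ∀ r, U * ρ r ≠ 0 := fun r => by rw [hU, ← map_mul]; exact hne0 _
  have hlam_mul : ∀ r s, lam (r * s) = lam r * lam s := fun r s => smul_left_injective k (hUr (r * s)) (by
    show lam (r * s) • (U * ρ (r * s)) = (lam r * lam s) • (U * ρ (r * s))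
    rw [← hlam, map_mul, mul_assoc, hlam, mul_smul_comm, ← mul_assoc, hlam, smul_mul_assoc, smul_smul, mul_comm (lam s), mul_assoc])
  have hlam1 : lam 1 = 1 := smul_left_injective k (hUr 1) (by
    show lam 1 • (U * ρ 1) = (1 : k) • (U * ρ 1)
    rw [← hlam, one_smul, map_one, one_mul, mul_one])
  obtain ⟨sU, hsU⟩ := hup.2
  rw [map_pow, ← hU] at hsU
  have hlamp : ∀ r, lam r ^ p = 1 := by
    intro r
    have hp' := pow_skew (X := U) (Y := ρ r) (μ := lam r) (hlam r) 1
    have h2 : ∀ m, ρ r * U ^ m = lam r ^ m • (U ^ m * ρ r) := by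
      intro m
      induction m with
      | zero => simp
      | succ m ih =>
        rw [pow_succ, ← mul_assoc, ih, smul_mul_assoc, mul_assoc (U ^ m) (ρ r) U, hlam, mul_smul_comm, smul_smul,
          ← mul_assoc, pow_succ (lam r)]
    have h := h2 p
    rw [hsU, mul_smul_comm, mul_one, smul_mul_assoc, one_mul, smul_smul] at h
    have hs0 : sU ≠ 0 := fun h0 => hne0 (u ^ p) (by rw [map_pow, ← hU, hsU, h0, zero_smul])
    exact (mul_eq_right₀ hs0).1 (smul_left_injective k (hne0 r) h).symm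
  let R₁ : Subgroup R :=
    { carrier := {r | lam r = 1}
      one_mem' := hlam1
      mul_mem' := fun {a b} (ha : lam a = 1) (hb : lam b = 1) => show lam (a * b) = 1 by rw [hlam_mul, ha, hb, one_mul]
      inv_mem' := fun {a} (ha : lam a = 1) => show lam a⁻¹ = 1 by
        have h := hlam_mul a a⁻¹
        rwa [mul_inv_cancel, hlam1, ha, one_mul, eq_comm] at h }
  have hR₁U : ∀ r ∈ R₁, ρ r * U = U * ρ r := fun r (hr : lam r = 1) => by rw [hlam r, hr, one_smul]
  have huR₁ : u ∈ R₁ := by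
    show lam u = 1
    refine smul_left_injective k (hUr u) ?_
    show lam u • (U * ρ u) = (1 : k) • (U * ρ u)
    rw [← hlam, one_smul, ← hU]
  obtain ⟨a₀, ha₀, hω1⟩ : ∃ a ∈ A, lam a ≠ 1 := by
    by_contra h
    push Not at h
    obtain ⟨γ, hγ⟩ := hcent U (Submodule.subset_span ⟨u, huA, rfl⟩) fun a ha => (hR₁U a (h a ha)).symm
    exact huns γ hγ
  have hω : IsPrimitiveRoot (lam a₀) p := by
    have := (orderOf_eq_prime (hlamp a₀) hω1)
    rw [← this]
    exact IsPrimitiveRoot.orderOf _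
  have hlampow : ∀ j : ℕ, lam (a₀ ^ j) = lam a₀ ^ j := by
    intro j
    induction j with
    | zero => rw [pow_zero, pow_zero, hlam1]
    | succ j ih => rw [pow_succ, pow_succ, hlam_mul, ih]
  have hshift : ∀ r, ∃ a ∈ A, r * a ∈ R₁ := by
    intro r
    haveI : NeZero p := ⟨hp.ne_zero⟩
    obtain ⟨j, -, hj⟩ := hω.eq_pow_of_pow_eq_one (show (lam r)⁻¹ ^ p = 1 by rw [inv_pow, hlamp, inv_one])
    refine ⟨a₀ ^ j, A.pow_mem ha₀ j, ?_⟩
    show lam (r * a₀ ^ j) = 1
    rw [hlam_mul, hlampow, hj, mul_inv_cancel₀]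
    intro h0
    have := hlamp r
    rw [h0, zero_pow hp.ne_zero] at this
    exact zero_ne_one this
  obtain ⟨μ, hμ⟩ := Module.End.exists_eigenvalue U
  obtain ⟨v₀, hv₀⟩ := hμ.exists_hasEigenvector
  let W₁ : Submodule k W := Module.End.eigenspace U μ
  have hW₁mem : ∀ w, w ∈ W₁ ↔ U w = μ • w := fun w => Module.End.mem_eigenspace_iff
  haveI : Nontrivial W₁ := ⟨⟨⟨v₀, hv₀.1⟩, 0, fun h => hv₀.2 (congrArg Subtype.val h)⟩⟩
  have hlt : Module.finrank k W₁ ≤ n := by
    have : W₁ < ⊤ := lt_top_iff_ne_top.2 fun h => huns μ (LinearMap.ext fun w => by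
      rw [LinearMap.smul_apply, Module.End.one_apply, ← hW₁mem, h]; exact Submodule.mem_top)
    have := Submodule.finrank_lt this.ne
    omega
  have hinv : ∀ r ∈ R₁, ∀ w ∈ W₁, ρ r w ∈ W₁ := by
    intro r hr w hw
    rw [hW₁mem] at hw ⊢
    rw [← Module.End.mul_apply, ← hR₁U r hr, Module.End.mul_apply, hw, map_smul]
  let ρ₁ : R₁ →* Module.End k W₁ :=
    { toFun := fun r => (ρ r).restrict (hinv r r.2)
      map_one' := LinearMap.ext fun w => Subtype.ext (by simp)
      map_mul' := fun r s => LinearMap.ext fun w => Subtype.ext (by simp) }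
  -- lifting
  set A₁ := A.subgroupOf R₁
  have hlift : ∀ c ∈ Submodule.span k (ρ₁ '' A₁), ∃ d ∈ Submodule.span k (ρ '' ((A ⊓ R₁ : Subgroup R) : Set R)),
      ∀ w : W₁, (c w : W) = d w := by
    intro c hc
    induction hc using Submodule.span_induction with
    | mem c hc =>
      obtain ⟨a, ha, rfl⟩ := hc
      exact ⟨ρ a, Submodule.subset_span ⟨a, ⟨ha, a.2⟩, rfl⟩, fun w => rfl⟩
    | zero => exact ⟨0, Submodule.zero_mem _, fun w => rfl⟩
    | add c d _ _ ihc ihd =>
      obtain ⟨c', hc', e1⟩ := ihc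
      obtain ⟨d', hd', e2⟩ := ihd
      exact ⟨c' + d', Submodule.add_mem _ hc' hd', fun w => by simp [e1, e2]⟩
    | smul t c _ ihc =>
      obtain ⟨c', hc', e1⟩ := ihc
      exact ⟨t • c', Submodule.smul_mem _ t hc', fun w => by simp [e1]⟩
  -- the projection
  have hμ0 : μ ≠ 0 := fun h0 => by
    have h := hv₀.apply_eq_smul
    rw [h0, zero_smul] at h
    have h1 := LinearMap.congr_fun (hu u).2 v₀
    rw [Module.End.mul_apply, ← hU, h, map_zero, Module.End.one_apply] at h1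
    exact hv₀.2 h1.symm
  have hUpow : ∀ (w : W) (ν : k), U w = ν • w → ∀ j : ℕ, (U ^ j) w = ν ^ j • w := by
    intro w ν h j
    induction j with
    | zero => simp
    | succ j ih => rw [pow_succ, Module.End.mul_apply, h, map_smul, ih, smul_smul, ← pow_succ']
  have hsμ : sU = μ ^ p := by
    have h := hUpow v₀ μ hv₀.apply_eq_smul p
    rw [hsU, LinearMap.smul_apply, Module.End.one_apply] at h
    exact smul_left_injective k hv₀.2 h
  set e₁ : Module.End k W := (p : k)⁻¹ • ∑ j ∈ Finset.range p, (μ⁻¹) ^ j • U ^ j with he₁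
  have he₁mem : e₁ ∈ Submodule.span k (ρ '' ((A ⊓ R₁ : Subgroup R) : Set R)) :=
    Submodule.smul_mem _ _ (Submodule.sum_mem _ fun j _ => Submodule.smul_mem _ _
      (Submodule.subset_span ⟨u ^ j, (A ⊓ R₁).pow_mem ⟨huA, huR₁⟩ j, by rw [map_pow]⟩))
  have he₁im : ∀ w, e₁ w ∈ W₁ := by
    intro w
    rw [hW₁mem, he₁]
    simp only [LinearMap.smul_apply, LinearMap.sum_apply, map_smul, map_sum]
    rw [smul_comm μ, Finset.smul_sum]
    have h1 : ∀ j, (μ⁻¹) ^ j • U ((U ^ j) w) = μ • ((μ⁻¹) ^ (j + 1) • (U ^ (j + 1)) w) := by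
      intro j
      rw [← Module.End.mul_apply, ← pow_succ', smul_smul, pow_succ (μ⁻¹), mul_left_comm, mul_inv_cancel₀ hμ0, mul_one]
    simp only [h1, ← Finset.smul_sum]
    congr 2
    have h2 := Finset.sum_range_succ' (fun j => (μ⁻¹) ^ j • (U ^ j) w) p
    rw [Finset.sum_range_succ, hsU, hsμ, LinearMap.smul_apply, Module.End.one_apply, smul_smul, ← mul_pow,
      inv_mul_cancel₀ hμ0, one_pow, one_smul, pow_zero, pow_zero, one_smul, Module.End.one_apply] at h2
    exact (add_right_cancel h2).symm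
  have he₁fix : ∀ w ∈ W₁, e₁ w = w := by
    intro w hw
    rw [hW₁mem] at hw
    simp only [he₁, LinearMap.smul_apply, LinearMap.sum_apply, hUpow w μ hw, smul_smul, ← mul_pow,
      inv_mul_cancel₀ hμ0, one_pow, one_smul, Finset.sum_const, Finset.card_range]
    rw [← Nat.cast_smul_eq_nsmul k, smul_smul, inv_mul_cancel₀ hk, one_smul]
  have he₁kill : ∀ (w : W) (ζ : k), U w = (μ * ζ) • w → ζ ^ p = 1 → ζ ≠ 1 → e₁ w = 0 := by
    intro w ζ hw hζ hζ1
    simp only [he₁, LinearMap.smul_apply, LinearMap.sum_apply, hUpow w _ hw, smul_smul, ← mul_pow,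
      inv_mul_cancel_left₀ hμ0, ← Finset.sum_smul, geom_zero hζ hζ1, mul_zero, zero_smul, smul_zero]
  have he₁comm : ∀ r ∈ R₁, ρ r * e₁ = e₁ * ρ r := by
    intro r hr
    rw [he₁, mul_smul_comm, smul_mul_assoc, Finset.mul_sum, Finset.sum_mul]
    congr 1
    refine Finset.sum_congr rfl fun j _ => ?_
    rw [mul_smul_comm, smul_mul_assoc, ((show Commute (ρ r) U from hR₁U r hr).pow_right j).eq]
  have hcent₁ : ∀ c ∈ Submodule.span k (ρ₁ '' A₁), (∀ a ∈ A₁, Commute c (ρ₁ a)) →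
      ∃ γ : k, c = γ • (1 : Module.End k W₁) := by
    intro c hc hcc
    obtain ⟨d, hd, hdc⟩ := hlift c hc
    set f := d * e₁ with hf
    have hfA : ∀ a, a ∈ A → a ∈ R₁ → ρ a * f = f * ρ a := by
      intro a haA haR
      refine LinearMap.ext fun w => ?_
      have h1 : ∀ v : W₁, ρ a (d v) = d (ρ a v) := fun v => by
        have h2 := congrArg (fun T : Module.End k W₁ => ((T v : W₁) : W)) (hcc ⟨a, haR⟩ haA).eq
        simp only [Module.End.mul_apply, hdc] at h2
        rw [← hdc v]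
        exact (h2.trans (congrArg _ rfl)).symm
      rw [hf, ← mul_assoc, mul_assoc d, ← he₁comm a haR]
      simp only [Module.End.mul_apply]
      exact h1 ⟨_, he₁im w⟩
    have hfspan : f ∈ Submodule.span k (ρ '' (A : Set R)) :=
      span_mul_mem ρ A (Submodule.span_mono (Set.image_mono inf_le_left) hd)
        (Submodule.span_mono (Set.image_mono inf_le_left) he₁mem)
    set F : Module.End k W := ∑ j ∈ Finset.range p, ρ (a₀ ^ j) * f * ρ (a₀ ^ j)⁻¹ with hF
    have hFspan : F ∈ Submodule.span k (ρ '' (A : Set R)) :=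
      Submodule.sum_mem _ fun j _ => span_mul_mem ρ A (span_mul_mem ρ A
        (Submodule.subset_span ⟨_, A.pow_mem ha₀ j, rfl⟩) hfspan)
        (Submodule.subset_span ⟨_, A.inv_mem (A.pow_mem ha₀ j), rfl⟩)
    have ha₀p : a₀ ^ p ∈ R₁ := show lam (a₀ ^ p) = 1 by rw [hlampow, hlamp]
    have hFa₀ : ρ a₀ * F = F * ρ a₀ := by
      have h1 : ρ a₀ * F * ρ a₀⁻¹ = F := by
        rw [hF, Finset.mul_sum, Finset.sum_mul]
        have h2 : ∀ j, ρ a₀ * (ρ (a₀ ^ j) * f * ρ (a₀ ^ j)⁻¹) * ρ a₀⁻¹ = ρ (a₀ ^ (j + 1)) * f * ρ (a₀ ^ (j + 1))⁻¹ := by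
          intro j
          rw [pow_succ' a₀ j, mul_inv_rev, map_mul, map_mul]
          simp only [mul_assoc]
        simp only [h2]
        have h3 := Finset.sum_range_succ' (fun j => ρ (a₀ ^ j) * f * ρ (a₀ ^ j)⁻¹) p
        rw [Finset.sum_range_succ, pow_zero, inv_one, map_one, one_mul, mul_one,
          hfA _ (A.pow_mem ha₀ p) ha₀p, mul_assoc f, (hu _).1, mul_one] at h3
        exact (add_right_cancel h3).symm
      conv_rhs => rw [← h1, mul_assoc, (hu a₀).2, mul_one]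
    have hFA₁ : ∀ a, a ∈ A → a ∈ R₁ → ρ a * F = F * ρ a := by
      intro a haA haR
      rw [hF, Finset.mul_sum, Finset.sum_mul]
      refine Finset.sum_congr rfl fun j _ => ?_
      have hb : (a₀ ^ j)⁻¹ * a * a₀ ^ j ∈ R₁ := show lam _ = 1 by
        rw [hlam_mul, hlam_mul, show lam a = 1 from haR, mul_one, ← hlam_mul, inv_mul_cancel, hlam1]
      have hbA : (a₀ ^ j)⁻¹ * a * a₀ ^ j ∈ A := A.mul_mem (A.mul_mem (A.inv_mem (A.pow_mem ha₀ j)) haA) (A.pow_mem ha₀ j)
      calc ρ a * (ρ (a₀ ^ j) * f * ρ (a₀ ^ j)⁻¹) = ρ (a₀ ^ j) * (ρ ((a₀ ^ j)⁻¹ * a * a₀ ^ j) * f) * ρ (a₀ ^ j)⁻¹ := by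
            rw [show ρ a * (ρ (a₀ ^ j) * f * ρ (a₀ ^ j)⁻¹) = ρ (a * a₀ ^ j) * f * ρ (a₀ ^ j)⁻¹ by rw [map_mul]; simp only [mul_assoc],
              show a * a₀ ^ j = a₀ ^ j * ((a₀ ^ j)⁻¹ * a * a₀ ^ j) by group, map_mul, mul_assoc (ρ (a₀ ^ j))]
        _ = ρ (a₀ ^ j) * f * (ρ ((a₀ ^ j)⁻¹ * a * a₀ ^ j) * ρ (a₀ ^ j)⁻¹) := by rw [hfA _ hbA hb]; simp only [mul_assoc]
        _ = ρ (a₀ ^ j) * f * ρ (a₀ ^ j)⁻¹ * ρ a := by
            rw [← map_mul, show (a₀ ^ j)⁻¹ * a * a₀ ^ j * (a₀ ^ j)⁻¹ = (a₀ ^ j)⁻¹ * a by group, map_mul]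
            simp only [mul_assoc]
    obtain ⟨γ, hγ⟩ := hcent F hFspan fun a ha => by
      obtain ⟨b, hb, hab⟩ := hshift a
      haveI : NeZero p := ⟨hp.ne_zero⟩
      obtain ⟨j, -, hj⟩ := hω.eq_pow_of_pow_eq_one (hlamp a)
      have hd' : a * (a₀ ^ j)⁻¹ ∈ R₁ := show lam _ = 1 by
        have h := hlam_mul (a * (a₀ ^ j)⁻¹) (a₀ ^ j)
        rw [inv_mul_cancel_right, hlampow, hj] at h
        have h0 : lam a ≠ 0 := fun h0 => by
          have := hlamp a
          rw [h0, zero_pow hp.ne_zero] at this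
          exact zero_ne_one this
        exact (mul_eq_right₀ h0).1 h.symm
      have h2 : Commute F (ρ a₀) := hFa₀.symm
      have h3 : Commute F (ρ (a * (a₀ ^ j)⁻¹)) := (hFA₁ _ (A.mul_mem ha (A.inv_mem (A.pow_mem ha₀ j))) hd').symm
      have h4 := h3.mul_right (h2.pow_right j)
      rwa [← map_pow, ← map_mul, inv_mul_cancel_right] at h4
    refine ⟨γ, LinearMap.ext fun w => Subtype.ext ?_⟩
    have h := LinearMap.congr_fun hγ (w : W)
    rw [hF, LinearMap.sum_apply, Finset.sum_eq_single 0] at h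
    · rw [hdc w]
      simpa [hf, he₁fix _ w.2] using h
    · intro j hj hj0
      have hjlt := Finset.mem_range.1 hj
      have hUw : U (ρ (a₀ ^ j)⁻¹ (w : W)) = (μ * lam (a₀ ^ j)) • ρ (a₀ ^ j)⁻¹ (w : W) := by
        have h1 := LinearMap.congr_fun (hlam ((a₀ ^ j)⁻¹)) (w : W)
        rw [Module.End.mul_apply, (hW₁mem _).1 w.2, map_smul, LinearMap.smul_apply, Module.End.mul_apply] at h1
        have hl : lam (a₀ ^ j) * lam (a₀ ^ j)⁻¹ = 1 := by rw [← hlam_mul, mul_inv_cancel, hlam1]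
        have h2 := congrArg (fun v => lam (a₀ ^ j) • v) h1
        simp only [smul_smul, hl, one_smul] at h2
        rw [← h2, mul_comm]
      simp only [Module.End.mul_apply, hf, he₁kill _ _ hUw (hlamp _) (by
        rw [hlampow]; exact hω.pow_ne_one_of_pos_of_lt hj0 hjlt), map_zero]
    · intro h'; exact absurd (Finset.mem_range.2 hp.pos) h'
  obtain ⟨a, ha, hxa⟩ := hshift x
  obtain ⟨b, hb, hyb⟩ := hshift y
  have hq1 : ∀ {g : R}, QuotientGroup.mk' A g = 1 ↔ g ∈ A := fun {g} => QuotientGroup.eq_one_iff g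
  have hmx : QuotientGroup.mk' A (x * a) = QuotientGroup.mk' A x := by rw [map_mul, hq1.2 ha, mul_one]
  have hmy : QuotientGroup.mk' A (y * b) = QuotientGroup.mk' A y := by rw [map_mul, hq1.2 hb, mul_one]
  obtain ⟨g, hgA, w, hw, hgw⟩ := ih R₁ A₁ W₁ hlt (hP.to_subgroup R₁) ρ₁ hcent₁ ⟨x * a, hxa⟩ ⟨y * b, hyb⟩
    (show (x * a) ^ p ∈ A by rw [← hq1, map_pow, hmx, ← map_pow, hq1]; exact hxp)
    (show (y * b) ^ p ∈ A by rw [← hq1, map_pow, hmy, ← map_pow, hq1]; exact hyp)
    (show x * a * (y * b) * (x * a)⁻¹ * (y * b)⁻¹ ∈ A by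
      rw [← hq1, map_mul, map_mul, map_mul, map_inv, map_inv, hmx, hmy, ← map_inv, ← map_inv, ← map_mul, ← map_mul,
        ← map_mul, hq1]
      exact hxy)
    (show y * b ∉ A by rw [← hq1, hmy, hq1]; exact hy)
    (fun i => show x * a * (y * b) ^ i ∉ A by
      rw [← hq1, map_mul, map_pow, hmx, hmy, ← map_pow, ← map_mul, hq1]; exact hx i)
  exact ⟨g, hgA, w, fun h => hw (Subtype.ext h), congrArg Subtype.val hgw⟩

end CfsgLib.CaminaPair.Descent
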