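import Cfsg.Agent.Lib.CaminaPair.Chain
import Cfsg.Agent.Lib.CaminaPair.Descent
import Cfsg.Agent.Lib.PGroup.CyclicMaximal
import Mathlib.FieldTheory.IsAlgClosed.AlgebraicClosure
import Mathlib.Algebra.Field.ZMod
import Mathlib.LinearAlgebra.Matrix.ToLin
import Mathlib.LinearAlgebra.Matrix.Nondegenerate

/-!
# No module for a Camina pair of `p`-groups

For a Camina pair of `p`-groups, `p` odd, with noncyclic quotient, no nontrivial coprime module has all
elements outside the normal subgroup acting fixed-point-freely.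
-/

set_option autoImplicit false
set_option linter.unusedSectionVars false
set_option linter.style.haveILetI false

namespace CfsgLib.CaminaPair

open Points

universe u v

/-- Two generators of a noncyclic subgroup of order `p ^ 2` of the quotient. -/
theorem exists_square {R : Type u} [Group R] [Finite R] (A : Subgroup R) [A.Normal] {p : ℕ} (hp : p.Prime)
    (hodd : p ≠ 2) (hP : IsPGroup p R) (hnc : ∀ t, A ⊔ Subgroup.zpowers t ≠ ⊤) :
    ∃ x y : R, x ^ p ∈ A ∧ y ^ p ∈ A ∧ x * y * x⁻¹ * y⁻¹ ∈ A ∧ y ∉ A ∧ ∀ i : ℕ, x * y ^ i ∉ A := by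
  haveI := Fact.mk hp
  set q := QuotientGroup.mk' A with hq
  have hQ := hP.to_quotient A
  have hncy : ¬ IsCyclic (R ⧸ A) := by
    intro hc
    obtain ⟨g, hg⟩ := hc.exists_generator
    obtain ⟨t, rfl⟩ := QuotientGroup.mk'_surjective A g
    apply hnc t
    rw [eq_top_iff]
    intro x _
    obtain ⟨i, hi⟩ := Subgroup.mem_zpowers_iff.1 (hg (q x))
    rw [← map_zpow] at hi
    obtain ⟨a, ha, hax⟩ := (QuotientGroup.mk'_eq_mk' A).1 hi
    rw [← hax]
    exact Subgroup.mul_mem _ (Subgroup.mem_sup_right (Subgroup.zpow_mem _ (Subgroup.mem_zpowers t) i))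
      (Subgroup.mem_sup_left ha)
  have hne : Nontrivial (R ⧸ A) := not_subsingleton_iff_nontrivial.1 fun h => hncy inferInstance
  have hcn := hQ.center_nontrivial
  obtain ⟨z, hz⟩ := exists_prime_orderOf_dvd_card' (G := Subgroup.center (R ⧸ A)) p (by
    obtain ⟨i, hi⟩ := IsPGroup.iff_card.1 (hQ.to_subgroup (Subgroup.center (R ⧸ A)))
    rw [hi]
    refine dvd_pow_self p fun h0 => ?_
    rw [h0, pow_zero] at hi
    have h1 := Finite.one_lt_card (α := Subgroup.center (R ⧸ A))
    omega)
  have hzp : (z : R ⧸ A) ^ p = 1 := by rw [← SubgroupClass.coe_pow, ← hz, pow_orderOf_eq_one, OneMemClass.coe_one]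
  have hz1 : (z : R ⧸ A) ≠ 1 := fun h => by
    have : z = 1 := Subtype.ext h
    rw [this, orderOf_one] at hz
    exact hp.one_lt.ne hz
  obtain ⟨w, hw, hwz⟩ : ∃ w : R ⧸ A, w ^ p = 1 ∧ w ∉ Subgroup.zpowers (z : R ⧸ A) := by
    by_contra h
    push Not at h
    refine hncy (CfsgLib.PGroup.isCyclic_of_unique_order_prime hodd hQ fun a b ha ha1 hb => ?_)
    have h1 := h a ha
    have ho : orderOf a = orderOf (z : R ⧸ A) := by rw [orderOf_eq_prime ha ha1, orderOf_eq_prime hzp hz1]
    have h2 : Subgroup.zpowers a = Subgroup.zpowers (z : R ⧸ A) :=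
      Subgroup.eq_of_le_of_card_ge (Subgroup.zpowers_le.2 h1) (by rw [Nat.card_zpowers, Nat.card_zpowers, ho])
    rw [h2]
    exact h b hb
  obtain ⟨x, rfl⟩ := QuotientGroup.mk'_surjective A w
  obtain ⟨y, hy⟩ := QuotientGroup.mk'_surjective A (z : R ⧸ A)
  have hq1 : ∀ {g : R}, q g = 1 ↔ g ∈ A := fun {g} => QuotientGroup.eq_one_iff g
  refine ⟨x, y, ?_, ?_, ?_, ?_, fun i hi => hwz ?_⟩
  · rw [← hq1, map_pow]; exact hw
  · rw [← hq1, map_pow, hy]; exact hzp
  · rw [← hq1, map_mul, map_mul, map_mul, map_inv, map_inv, hy, Subgroup.mem_center_iff.1 z.2 (q x)]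
    group
  · rw [← hq1, hy]; exact hz1
  · rw [← hq1, map_mul, map_pow, hy] at hi
    rw [eq_inv_of_mul_eq_one_left hi]
    exact Subgroup.inv_mem _ (Subgroup.pow_mem _ (Subgroup.mem_zpowers _) i)

variable {k : Type v} [Field k] [IsAlgClosed k]

/-- The group-algebra form. -/
theorem false_of_rep {G : Type u} [Group G] [Finite G] (A : Subgroup G) [hA : A.Normal] {p : ℕ} (hp : p.Prime)
    (hodd : p ≠ 2) (hk : (p : k) ≠ 0) (hP : IsPGroup p G) (hpair : Points.IsPair' A)
    (hnc : ∀ t, A ⊔ Subgroup.zpowers t ≠ ⊤) {V : Type v} [AddCommGroup V] [Module k V] [FiniteDimensional k V]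
    [Nontrivial V] (ρ : G →* Module.End k V) (hfpf : ∀ g, g ∉ A → ∀ v : V, ρ g v = v → v = 0) : False := by
  classical
  haveI := Fact.mk hp
  have hG : (Nat.card G : k) ≠ 0 := by
    obtain ⟨n, hn⟩ := IsPGroup.iff_card.1 hP
    rw [hn, Nat.cast_pow]
    exact pow_ne_zero _ hk
  have := Fintype.ofFinite G
  have := finite_pts (k := k) (A := A) le_rfl hG
  have := Fintype.ofFinite (Pts k A A)
  choose e he1 he2 he3 using fun ψ : Pts k A A => exists_idem le_rfl hG ψ
  have hsum : ∑ ψ, e ψ = 1 := by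
    apply (pts_bijective le_rfl hG).1
    funext χ
    show χ (∑ ψ, e ψ) = χ 1
    rw [map_sum, map_one, Finset.sum_eq_single χ (fun ψ _ hψ => he2 ψ χ hψ.symm) (fun h => absurd (Finset.mem_univ χ) h)]
    exact he1 χ
  let Λ : MonoidAlgebra k G →ₐ[k] Module.End k V := MonoidAlgebra.lift k (Module.End k V) G ρ
  have hΛu : ∀ g, Λ (u g) = ρ g := fun g => by simp [Λ, u, MonoidAlgebra.lift_single]
  by_cases hex : ∃ φ : Pts k A A, φ ≠ triv k A A ∧ Λ (e φ : MonoidAlgebra k G) ≠ 0
  · obtain ⟨φ, hφ, hne⟩ := hex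
    set R := stab φ
    have hAR : A ≤ R := le_stab φ
    set E : Module.End k V := Λ (e φ : MonoidAlgebra k G) with hE
    have hEE : E * E = E := by
      rw [hE, ← map_mul]
      exact congrArg Λ (congrArg Subtype.val (idem_mul_self (he1 φ) (he3 φ)))
    let W : Submodule k V := LinearMap.range E
    have hW : ∀ w ∈ W, E w = w := by
      rintro _ ⟨v, rfl⟩
      rw [← Module.End.mul_apply, hEE]
    haveI : Nontrivial W := by
      obtain ⟨v, hv⟩ : ∃ v, E v ≠ 0 := by
        by_contra h
        push Not at h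
        exact hne (LinearMap.ext h)
      exact ⟨⟨⟨E v, v, rfl⟩, 0, fun h => hv (congrArg Subtype.val h)⟩⟩
    have hcomm : ∀ r ∈ R, ρ r * E = E * ρ r := by
      intro r hr
      have h1 : cjHom r (e φ) = e φ := by
        apply (pts_bijective le_rfl hG).1
        funext ψ
        show act r ψ (e φ) = ψ (e φ)
        by_cases h : ψ = φ
        · subst h; rw [mem_stab.1 hr]
        · rw [he2 φ ψ h, he2 φ]
          intro h'
          apply h
          have h2 : act r ψ = act r φ := h'.trans (mem_stab.1 hr).symm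
          have h3 := congrArg (act r⁻¹) h2
          rwa [← act_mul, ← act_mul, mul_inv_cancel, act_one, act_one] at h3
      rw [hE, ← hΛu, ← map_mul, ← map_mul, (cj_eq_iff r _).1 (congrArg Subtype.val h1)]
    have hinv : ∀ r ∈ R, ∀ w ∈ W, ρ r w ∈ W := by
      intro r hr w hw
      refine ⟨ρ r w, ?_⟩
      rw [← Module.End.mul_apply, ← hcomm r hr, Module.End.mul_apply, hW w hw]
    let ρ' : R →* Module.End k W :=
      { toFun := fun r => (ρ r).restrict (hinv r r.2)
        map_one' := LinearMap.ext fun w => Subtype.ext (by simp)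
        map_mul' := fun r s => LinearMap.ext fun w => Subtype.ext (by simp) }
    set A' := A.subgroupOf R
    have hlift : ∀ c ∈ Submodule.span k (ρ' '' A'), ∃ C : MonoidAlgebra k G, (∀ g ∉ A, C.coeff g = 0) ∧
        ∀ w : W, (c w : V) = Λ C w := by
      intro c hc
      induction hc using Submodule.span_induction with
      | mem c hc =>
        obtain ⟨a, ha, rfl⟩ := hc
        refine ⟨u (a : G), fun g hg => ?_, fun w => by rw [hΛu]; rfl⟩
        rw [u, MonoidAlgebra.coeff_single, Finsupp.single_eq_of_ne]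
        rintro rfl
        exact hg ha
      | zero => exact ⟨0, fun g _ => by simp, fun w => by simp⟩
      | add c d _ _ ihc ihd =>
        obtain ⟨c', hc', e1⟩ := ihc
        obtain ⟨d', hd', e2⟩ := ihd
        exact ⟨c' + d', fun g hg => by simp [hc' g hg, hd' g hg], fun w => by simp [e1, e2]⟩
      | smul t c _ ihc =>
        obtain ⟨c', hc', e1⟩ := ihc
        exact ⟨t • c', fun g hg => by simp [hc' g hg], fun w => by simp [e1]⟩
    have hcent : ∀ c ∈ Submodule.span k (ρ' '' A'), (∀ a ∈ A', Commute c (ρ' a)) →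
        ∃ γ : k, c = γ • (1 : Module.End k W) := by
      intro c hc hcc
      obtain ⟨C, hC, hCc⟩ := hlift c hc
      have := Fintype.ofFinite A
      set C' : MonoidAlgebra k G := ∑ a : A, cj (a : G) C with hC'
      have hC'm : C' ∈ Zs k A A := by
        refine ⟨fun g hg => ?_, fun b hb => ?_⟩
        · rw [hC', MonoidAlgebra.coeff_sum, Finsupp.finsetSum_apply]
          refine Finset.sum_eq_zero fun a _ => ?_
          rw [coeff_cj]
          refine hC _ fun h => hg ?_
          have := A.mul_mem (A.mul_mem a.2 h) (A.inv_mem a.2)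
          rwa [show (a : G) * ((a : G)⁻¹ * g * a) * (a : G)⁻¹ = g by group] at this
        · rw [← cj_eq_iff, hC', cj, Finset.mul_sum, Finset.sum_mul]
          refine Fintype.sum_equiv (Equiv.mulLeft ⟨b, hb⟩) _ _ fun a => ?_
          show u b * cj (a : G) C * u b⁻¹ = cj (b * (a : G)) C
          rw [← cj_cj]; rfl
      refine ⟨φ ⟨C', hC'm⟩ / (Nat.card A : k), LinearMap.ext fun w => Subtype.ext ?_⟩
      have h1 := congrArg (fun x : Zs k A A => Λ (x : MonoidAlgebra k G) (w : V)) (he3 φ ⟨C', hC'm⟩)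
      change Λ (C' * (e φ : MonoidAlgebra k G)) (w : V) = Λ (φ ⟨C', hC'm⟩ • (e φ : MonoidAlgebra k G)) (w : V) at h1
      rw [map_mul, map_smul, Module.End.mul_apply, LinearMap.smul_apply, ← hE, hW w w.2] at h1
      have hsumC : Λ C' = ∑ a : A, Λ (cj (a : G) C) := by rw [hC', map_sum]
      rw [hsumC, LinearMap.sum_apply] at h1
      have h2 : ∀ a : A, Λ (cj (a : G) C) (w : V) = (c w : V) := by
        intro a
        have ha' : (⟨(a : G), hAR a.2⟩ : R) ∈ A' := a.2
        have h3 := congrArg (fun T : Module.End k W => ((T (ρ' ⟨(a : G), hAR a.2⟩⁻¹ w) : W) : V)) (hcc _ ha').eq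
        simp only [Module.End.mul_apply] at h3
        rw [← Module.End.mul_apply (ρ' ⟨(a : G), hAR a.2⟩), ← map_mul, mul_inv_cancel, map_one, Module.End.one_apply] at h3
        rw [h3, cj, map_mul, map_mul, hΛu, hΛu, Module.End.mul_apply, Module.End.mul_apply]
        show ρ (a : G) (Λ C (ρ (a : G)⁻¹ (w : V))) = ρ (a : G) ((c (ρ' _ w) : W) : V)
        rw [hCc]
        rfl
      rw [Finset.sum_congr rfl (fun a _ => h2 a), Finset.sum_const, Finset.card_univ, ← Nat.card_eq_fintype_card,
        ← Nat.cast_smul_eq_nsmul k] at h1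
      show (c w : V) = (φ ⟨C', hC'm⟩ / (Nat.card A : k)) • (w : V)
      rw [div_eq_inv_mul, ← smul_smul, ← h1, inv_smul_smul₀ (card_ne_zero_of_dvd hG A)]
    have hnc' : ∀ t : R, A' ⊔ Subgroup.zpowers t ≠ ⊤ := by
      intro t ht
      refine Points.stab_noncyclic hG hp hP hpair hnc φ hφ (t : G) ?_
      have h := congrArg (Subgroup.map R.subtype) ht
      rw [Subgroup.map_sup, MonoidHom.map_zpowers, ← MonoidHom.range_eq_map, Subgroup.range_subtype,
        Subgroup.subgroupOf_map_subtype, inf_eq_left.2 hAR] at h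
      exact h
    obtain ⟨x, y, hx, hy, hxy, hy', hxi⟩ := exists_square A' hp hodd (hP.to_subgroup R) hnc'
    obtain ⟨g, hg, w, hw, hgw⟩ := Descent.exists_fixed hp hodd hk (Module.finrank k W) R A' W le_rfl
      (hP.to_subgroup R) ρ' hcent x y hx hy hxy hy' hxi
    exact hw (Subtype.ext (hfpf g hg w (congrArg Subtype.val hgw)))
  · push Not at hex
    obtain ⟨x, y, hx, hy, hxy, hy', hxi⟩ := exists_square A hp hodd hP hnc
    have h1 : Λ (e (triv k A A) : MonoidAlgebra k G) = 1 := by
      have h := congrArg (fun z : Zs k A A => Λ (z : MonoidAlgebra k G)) hsum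
      simp only [AddSubmonoidClass.coe_finsetSum, map_sum, OneMemClass.coe_one, map_one] at h
      rwa [Finset.sum_eq_single (triv k A A) (fun ψ _ hψ => hex ψ hψ) (fun h => absurd (Finset.mem_univ _) h)] at h
    have hscal : ∀ a ∈ A, ρ a = (1 : k) • (1 : Module.End k V) := by
      intro a ha
      rw [one_smul]
      have := Fintype.ofFinite A
      set s : MonoidAlgebra k G := ∑ b : A, u (b : G) with hs
      have hsm : s ∈ Zs k A A := by
        refine ⟨fun g hg => ?_, fun b hb => ?_⟩
        · rw [hs, MonoidAlgebra.coeff_sum, Finsupp.finsetSum_apply]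
          refine Finset.sum_eq_zero fun c _ => ?_
          rw [u, MonoidAlgebra.coeff_single, Finsupp.single_eq_of_ne]
          rintro rfl
          exact hg c.2
        · rw [hs, Finset.mul_sum, Finset.sum_mul]
          refine Fintype.sum_equiv ((Equiv.mulLeft ⟨b, hb⟩).trans (Equiv.mulRight ⟨b, hb⟩⁻¹)) _ _ fun c => ?_
          rw [u_mul, u_mul]
          congr 1
          show b * (c : G) = b * (c : G) * b⁻¹ * b
          group
      have h2 := congrArg (fun z : Zs k A A => Λ (z : MonoidAlgebra k G)) (he3 (triv k A A) ⟨s, hsm⟩)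
      change Λ (s * (e (triv k A A) : MonoidAlgebra k G)) = Λ (triv k A A ⟨s, hsm⟩ • (e (triv k A A) : MonoidAlgebra k G)) at h2
      rw [map_mul, map_smul, h1, mul_one] at h2
      have ht : triv k A A ⟨s, hsm⟩ = (Nat.card A : k) := by
        show (MonoidAlgebra.lift k k G 1) s = _
        rw [hs, map_sum]
        simp only [lift_one_u, Finset.sum_const, Finset.card_univ, nsmul_one, Nat.card_eq_fintype_card]
      rw [ht] at h2
      have h3 : ρ a * Λ s = Λ s := by
        rw [← hΛu, ← map_mul, hs, Finset.mul_sum]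
        congr 1
        exact Fintype.sum_equiv (Equiv.mulLeft ⟨a, ha⟩) _ _ fun c => by rw [u_mul]; rfl
      rw [h2, mul_smul_comm, mul_one] at h3
      exact smul_right_injective _ (card_ne_zero_of_dvd hG A) h3
    obtain ⟨g, hg, w, hw, hgw⟩ := Descent.scalar_case A hp hodd hk hP ρ (fun _ => 1) hscal hx hy hxy hy' hxi
    exact hw (hfpf g hg w hgw)

/-- **No coprime module.** -/
theorem no_module {G : Type u} [Group G] [Finite G] (A : Subgroup G) [A.Normal] {p : ℕ} (hp : p.Prime) (hodd : p ≠ 2)
    (hP : IsPGroup p G) (hpair : Points.IsPair' A) (hnc : ∀ t, A ⊔ Subgroup.zpowers t ≠ ⊤) {r : ℕ} [Fact r.Prime]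
    (hrp : r ≠ p) {V : Type*} [CommGroup V] [Finite V] [Nontrivial V] (hexp : ∀ a : V, a ^ r = 1) (φ : G →* MulAut V)
    (hfpf : ∀ g, g ∉ A → ∀ a, φ g a = a → a = 1) : False := by
  classical
  let : Module (ZMod r) (Additive V) := AddCommGroup.zmodModule (n := r)
    (fun x => Additive.toMul.injective (hexp x.toMul))
  have : FiniteDimensional (ZMod r) (Additive V) := Module.Finite.of_finite
  let act : G →* Module.End (ZMod r) (Additive V) :=
    { toFun := fun g => (MonoidHom.toAdditive (φ g).toMonoidHom).toZModLinearMap r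
      map_one' := by ext w; simp
      map_mul' := fun a b => by ext w; simp }
  let b := Module.finBasis (ZMod r) (Additive V)
  let d := Module.finrank (ZMod r) (Additive V)
  let M : G →* Matrix (Fin d) (Fin d) (ZMod r) :=
    (LinearMap.toMatrixAlgEquiv b).toRingEquiv.toRingHom.toMonoidHom.comp act
  let K := AlgebraicClosure (ZMod r)
  let f : ZMod r →+* K := algebraMap (ZMod r) K
  let ρ : G →* Module.End K (Fin d → K) :=
    ((Matrix.toLinAlgEquiv' : Matrix (Fin d) (Fin d) K ≃ₐ[K] _).toMulEquiv.toMonoidHom).comp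
      ((f.mapMatrix (m := Fin d)).toMonoidHom.comp M)
  haveI : Nonempty (Fin d) := ⟨⟨0, Module.finrank_pos⟩⟩
  refine false_of_rep (k := K) A hp hodd ?_ hP hpair hnc ρ fun g hg w hw => ?_
  · intro h
    have h'' : (p : ZMod r) = 0 := f.injective (by rw [map_zero, map_natCast]; exact h)
    rw [ZMod.natCast_eq_zero_iff] at h''
    exact hrp ((Nat.prime_dvd_prime_iff_eq (Fact.out : r.Prime) hp).1 h'')
  · have hdet : (M g - 1).det ≠ 0 := by
      intro h0
      obtain ⟨v, hv, hv0⟩ := Matrix.exists_mulVec_eq_zero_iff.2 h0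
      apply hv
      rw [Matrix.sub_mulVec, Matrix.one_mulVec, sub_eq_zero] at hv0
      have h2 := LinearMap.toMatrix_mulVec_repr b b (act g) (b.equivFun.symm v)
      have h3 : (b.repr (b.equivFun.symm v) : _ → ZMod r) = v := b.equivFun.apply_symm_apply v
      rw [h3] at h2
      have h1 : act g (b.equivFun.symm v) = b.equivFun.symm v := by
        apply b.equivFun.injective
        rw [LinearEquiv.apply_symm_apply]
        exact h2.symm.trans hv0
      have h4 := hfpf g hg (b.equivFun.symm v).toMul (congrArg Additive.toMul h1)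
      rw [← b.equivFun.apply_symm_apply v, show b.equivFun.symm v = 0 from Additive.toMul.injective h4, map_zero]
    by_contra hw0
    refine hdet (f.injective ?_)
    rw [RingHom.map_det, map_zero, ← Matrix.exists_mulVec_eq_zero_iff]
    refine ⟨w, hw0, ?_⟩
    rw [map_sub, map_one, Matrix.sub_mulVec, Matrix.one_mulVec, sub_eq_zero]
    exact hw

end CfsgLib.CaminaPair
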