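import Cfsg.Agent.Lib.CaminaPair.Count
import Mathlib.Algebra.MonoidAlgebra.Module
import Mathlib.Algebra.MonoidAlgebra.Support
import Mathlib.RingTheory.Artinian.Module
import Mathlib.FieldTheory.IsAlgClosed.Basic
import Mathlib.LinearAlgebra.Trace
import Mathlib.Tactic

/-!
# Central points of a group algebra

`W k A S` consists of the elements of the group algebra supported on `S` which commute with `A`.
For `B ≤ A` normalised by `A` the algebra `Zs k A B` is the algebra of all functions on its points.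
-/

set_option autoImplicit false
set_option linter.unusedSectionVars false

namespace CfsgLib.CaminaPair.Points

variable {k : Type*} [Field k] {G : Type*} [Group G]

/-- The basis element. -/
noncomputable def u (g : G) : MonoidAlgebra k G := MonoidAlgebra.single g 1

theorem u_mul (g h : G) : (u g : MonoidAlgebra k G) * u h = u (g * h) := by
  simp [u, MonoidAlgebra.single_mul_single]

theorem u_one : (u 1 : MonoidAlgebra k G) = 1 := rfl

theorem u_mul_inv (g : G) : (u g : MonoidAlgebra k G) * u g⁻¹ = 1 := by rw [u_mul, mul_inv_cancel, u_one]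

theorem u_inv_mul (g : G) : (u g⁻¹ : MonoidAlgebra k G) * u g = 1 := by rw [u_mul, inv_mul_cancel, u_one]

theorem coeff_u_mul (g h : G) (c : MonoidAlgebra k G) : (u g * c).coeff h = c.coeff (g⁻¹ * h) := by
  rw [u, MonoidAlgebra.coeff_single_mul_apply, one_mul]

theorem coeff_mul_u (g h : G) (c : MonoidAlgebra k G) : (c * u g).coeff h = c.coeff (h * g⁻¹) := by
  rw [u, MonoidAlgebra.coeff_mul_single_apply, mul_one]

theorem u_ne_zero (g : G) : (u g : MonoidAlgebra k G) ≠ 0 := fun h => by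
  have h1 := congrArg (fun c : MonoidAlgebra k G => c.coeff g) h
  simp [u] at h1

/-- Conjugation. -/
noncomputable def cj (g : G) (c : MonoidAlgebra k G) : MonoidAlgebra k G := u g * c * u g⁻¹

theorem cj_mul (g : G) (c d : MonoidAlgebra k G) : cj g (c * d) = cj g c * cj g d := by
  simp only [cj, mul_assoc]
  rw [← mul_assoc (u g⁻¹) (u g), u_inv_mul, one_mul]

theorem cj_cj (g h : G) (c : MonoidAlgebra k G) : cj g (cj h c) = cj (g * h) c := by
  simp only [cj, mul_inv_rev, ← u_mul, mul_assoc]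

theorem cj_one (c : MonoidAlgebra k G) : cj 1 c = c := by simp [cj, u_one]

theorem coeff_cj (g h : G) (c : MonoidAlgebra k G) : (cj g c).coeff h = c.coeff (g⁻¹ * h * g) := by
  rw [cj, coeff_mul_u, coeff_u_mul, inv_inv, mul_assoc]

theorem cj_eq_iff (g : G) (c : MonoidAlgebra k G) : cj g c = c ↔ u g * c = c * u g := by
  constructor
  · intro h
    conv_rhs => rw [← h, cj, mul_assoc, u_inv_mul, mul_one]
  · intro h
    rw [cj, h, mul_assoc, u_mul_inv, mul_one]

/-- Supported on `S` and commuting with `A`. -/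
def W (k : Type*) [Field k] {G : Type*} [Group G] (A : Subgroup G) (S : Set G) :
    Submodule k (MonoidAlgebra k G) where
  carrier := {c | (∀ g ∉ S, c.coeff g = 0) ∧ ∀ a ∈ A, u a * c = c * u a}
  add_mem' := by
    rintro a b ⟨ha, ha'⟩ ⟨hb, hb'⟩
    exact ⟨fun g hg => by simp [ha g hg, hb g hg], fun x hx => by rw [mul_add, add_mul, ha' x hx, hb' x hx]⟩
  zero_mem' := ⟨fun g _ => by simp, fun a _ => by rw [mul_zero, zero_mul]⟩
  smul_mem' := by
    rintro t a ⟨ha, ha'⟩
    exact ⟨fun g hg => by simp [ha g hg], fun x hx => by rw [mul_smul_comm, smul_mul_assoc, ha' x hx]⟩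

theorem mem_W {A : Subgroup G} {S : Set G} {c : MonoidAlgebra k G} :
    c ∈ W k A S ↔ (∀ g ∉ S, c.coeff g = 0) ∧ ∀ a ∈ A, u a * c = c * u a := Iff.rfl

theorem coeff_conj_eq {A : Subgroup G} {S : Set G} {c : MonoidAlgebra k G} (hc : c ∈ W k A S) {a : G}
    (ha : a ∈ A) (g : G) : c.coeff (a * g * a⁻¹) = c.coeff g := by
  conv_lhs => rw [← (cj_eq_iff a c).2 (hc.2 a ha), coeff_cj]
  rw [show a⁻¹ * (a * g * a⁻¹) * a = g by group]

theorem commutes_of_coeff {A : Subgroup G} {c : MonoidAlgebra k G}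
    (h : ∀ a ∈ A, ∀ g, c.coeff (a * g * a⁻¹) = c.coeff g) : ∀ a ∈ A, u a * c = c * u a := by
  intro a ha
  rw [← cj_eq_iff]
  ext g
  rw [coeff_cj]
  simpa using h a⁻¹ (inv_mem ha) g

theorem mul_supported {S S' U : Set G} {c d : MonoidAlgebra k G} (hc : ∀ g ∉ S, c.coeff g = 0)
    (hd : ∀ g ∉ S', d.coeff g = 0) (hU : ∀ s ∈ S, ∀ s' ∈ S', s * s' ∈ U) :
    ∀ g ∉ U, (c * d).coeff g = 0 := by
  classical
  intro g hg
  by_contra hne
  have h1 := MonoidAlgebra.support_coeff_mul_subset c d (Finsupp.mem_support_iff.2 hne)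
  obtain ⟨s, hs, s', hs', rfl⟩ := Finset.mem_mul.1 h1
  exact hg (hU s (by by_contra h; exact Finsupp.mem_support_iff.1 hs (hc s h))
    s' (by by_contra h; exact Finsupp.mem_support_iff.1 hs' (hd s' h)))

theorem mul_mem_W {A : Subgroup G} {S S' U : Set G} {c d : MonoidAlgebra k G} (hc : c ∈ W k A S)
    (hd : d ∈ W k A S') (hU : ∀ s ∈ S, ∀ s' ∈ S', s * s' ∈ U) : c * d ∈ W k A U :=
  ⟨mul_supported hc.1 hd.1 hU, fun a ha => by
    rw [← mul_assoc, hc.2 a ha, mul_assoc, hd.2 a ha, mul_assoc]⟩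

theorem commute_of_supported {A : Subgroup G} {S : Set G} {c d : MonoidAlgebra k G} (hc : c ∈ W k A S)
    (hd : ∀ g ∉ A, d.coeff g = 0) : Commute c d := by
  rw [← MonoidAlgebra.sum_coeff_single d, Finsupp.sum]
  refine Commute.sum_right _ _ _ fun g hg => ?_
  have hgA : g ∈ A := by by_contra h; exact Finsupp.mem_support_iff.1 hg (hd g h)
  have h1 : MonoidAlgebra.single g (d.coeff g) = d.coeff g • u g := by
    simp [u, MonoidAlgebra.smul_single]
  rw [h1]
  exact Commute.smul_right (hc.2 g hgA).symm _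

theorem cj_mem_W {A : Subgroup G} {S S' : Set G} {g : G} (hA : ∀ a ∈ A, g⁻¹ * a * g ∈ A)
    (hS : ∀ h, g⁻¹ * h * g ∈ S → h ∈ S') {c : MonoidAlgebra k G} (hc : c ∈ W k A S) : cj g c ∈ W k A S' := by
  refine ⟨fun h hh => ?_, fun a ha => ?_⟩
  · rw [coeff_cj]
    exact hc.1 _ fun hm => hh (hS h hm)
  · rw [← cj_eq_iff, cj_cj, show a * g = g * (g⁻¹ * a * g) by group, ← cj_cj,
      (cj_eq_iff _ c).2 (hc.2 _ (hA a ha))]

/-- The algebra of elements supported on `B` commuting with `A`. -/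
noncomputable def Zs (k : Type*) [Field k] {G : Type*} [Group G] (A B : Subgroup G) :
    Subalgebra k (MonoidAlgebra k G) where
  carrier := W k A (B : Set G)
  mul_mem' := fun ha hb => mul_mem_W ha hb fun _ hs _ hs' => B.mul_mem hs hs'
  add_mem' := fun ha hb => (W k A (B : Set G)).add_mem ha hb
  algebraMap_mem' := fun t => by
    rw [Algebra.algebraMap_eq_smul_one]
    refine (W k A (B : Set G)).smul_mem t ⟨fun g hg => ?_, fun a _ => by rw [mul_one, one_mul]⟩
    rw [← u_one, u, MonoidAlgebra.coeff_single, Finsupp.single_eq_of_ne]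
    rintro rfl
    exact hg B.one_mem

theorem mem_Zs {A B : Subgroup G} {c : MonoidAlgebra k G} : c ∈ Zs k A B ↔ c ∈ W k A (B : Set G) := Iff.rfl

theorem Zs_mono {A B₀ B : Subgroup G} (h : B₀ ≤ B) : Zs k A B₀ ≤ Zs k A B :=
  fun _ hc => ⟨fun g hg => hc.1 g fun h' => hg (h h'), hc.2⟩

theorem Zs_comm {A B : Subgroup G} (h : B ≤ A) (c d : Zs k A B) : c * d = d * c :=
  Subtype.ext (commute_of_supported c.2 fun g hg => d.2.1 g fun h' => hg (h h'))

/-- The points. -/
abbrev Pts (k : Type*) [Field k] {G : Type*} [Group G] (A B : Subgroup G) := Zs k A B →ₐ[k] k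

theorem coeff_mul_one [Fintype G] (c d : MonoidAlgebra k G) :
    (c * d).coeff 1 = ∑ h : G, c.coeff h * d.coeff h⁻¹ := by
  classical
  rw [MonoidAlgebra.coeff_mul_antidiag c d 1 (Finset.univ.image fun h : G => (h, h⁻¹)) (fun {x} => by
      rw [Finset.mem_image]
      constructor
      · rintro ⟨a, -, rfl⟩; exact mul_inv_cancel a
      · intro hx; exact ⟨x.1, Finset.mem_univ _, Prod.ext rfl (inv_eq_of_mul_eq_one_right hx)⟩),
    Finset.sum_image fun a _ b _ hab => congrArg Prod.fst hab]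

/-- The trace form separates. -/
theorem exists_pair [Finite G] {A : Subgroup G} (hA : (Nat.card A : k) ≠ 0) {S S' : Set G}
    (hS' : ∀ a ∈ A, ∀ s ∈ S, a * s⁻¹ * a⁻¹ ∈ S') {c : MonoidAlgebra k G} (hc : c ∈ W k A S) (hne : c ≠ 0) :
    ∃ d ∈ W k A S', (d * c).coeff 1 ≠ 0 := by
  classical
  have := Fintype.ofFinite A
  obtain ⟨g, hg⟩ : ∃ g, c.coeff g ≠ 0 := by
    by_contra h
    push Not at h
    exact hne (by ext x; simp [h x])
  have hgS : g ∈ S := by by_contra h; exact hg (hc.1 g h)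
  refine ⟨∑ a : A, u ((a : G) * g⁻¹ * (a : G)⁻¹), ⟨fun h hh => ?_, fun b hb => ?_⟩, ?_⟩
  · rw [MonoidAlgebra.coeff_sum, Finsupp.finsetSum_apply]
    refine Finset.sum_eq_zero fun a _ => ?_
    rw [u, MonoidAlgebra.coeff_single, Finsupp.single_eq_of_ne]
    rintro rfl
    exact hh (hS' a a.2 g hgS)
  · rw [Finset.mul_sum, Finset.sum_mul]
    refine Fintype.sum_equiv (Equiv.mulLeft ⟨b, hb⟩) _ _ fun a => ?_
    rw [u_mul, u_mul, Equiv.coe_mulLeft, Subgroup.coe_mul]
    congr 1
    show b * (↑a * g⁻¹ * (↑a)⁻¹) = b * ↑a * g⁻¹ * (b * ↑a)⁻¹ * b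
    group
  · rw [Finset.sum_mul, MonoidAlgebra.coeff_sum, Finsupp.finsetSum_apply,
      Finset.sum_congr rfl (g := fun _ => c.coeff g) fun a _ => ?_]
    · rw [Finset.sum_const, Finset.card_univ, ← Nat.card_eq_fintype_card, nsmul_eq_mul]
      exact mul_ne_zero hA hg
    · rw [coeff_u_mul, mul_one, show ((a : G) * g⁻¹ * (a : G)⁻¹)⁻¹ = (a : G) * g * (a : G)⁻¹ by group]
      exact coeff_conj_eq hc a.2 g

theorem coeff_one_of_isNilpotent [Finite G] (hG : (Nat.card G : k) ≠ 0) {x : MonoidAlgebra k G}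
    (hx : IsNilpotent x) : x.coeff 1 = 0 := by
  classical
  have := Fintype.ofFinite G
  let b : Module.Basis G k (MonoidAlgebra k G) := MonoidAlgebra.basis G k
  have h1 : LinearMap.trace k _ (LinearMap.mulLeft k x) = (Nat.card G : k) * x.coeff 1 := by
    rw [LinearMap.trace_eq_matrix_trace k b, Matrix.trace, Nat.card_eq_fintype_card, ← nsmul_eq_mul,
      ← Finset.card_univ, ← Finset.sum_const]
    refine Finset.sum_congr rfl fun g _ => ?_
    rw [Matrix.diag_apply, LinearMap.toMatrix_apply]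
    show (x * b g).coeff g = _
    rw [show b g = u g from MonoidAlgebra.basis_apply k g, coeff_mul_u, mul_inv_cancel]
  have h2 : IsNilpotent (LinearMap.mulLeft k x) := by
    obtain ⟨n, hn⟩ := hx
    exact ⟨n, by rw [LinearMap.pow_mulLeft, hn, LinearMap.mulLeft_zero_eq_zero]⟩
  have h3 := (LinearMap.isNilpotent_trace_of_isNilpotent h2).eq_zero
  rw [h1] at h3
  exact (mul_eq_zero.1 h3).resolve_left hG

variable [IsAlgClosed k] [Finite G]

theorem card_ne_zero_of_dvd (hG : (Nat.card G : k) ≠ 0) (A : Subgroup G) : (Nat.card A : k) ≠ 0 := by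
  intro h
  apply hG
  obtain ⟨m, hm⟩ := A.card_subgroup_dvd_card
  rw [hm, Nat.cast_mul, h, zero_mul]

/-- `Zs k A B` is the algebra of functions on its points. -/
theorem eval_bijective {A B : Subgroup G} (hBA : B ≤ A) (hn : ∀ a ∈ A, ∀ b ∈ B, a * b * a⁻¹ ∈ B)
    (hG : (Nat.card G : k) ≠ 0) :
    Finite (Pts k A B) ∧ Function.Bijective (fun (c : Zs k A B) (φ : Pts k A B) => φ c) := by
  classical
  have : Fintype G := Fintype.ofFinite G
  let : CommRing (Zs k A B) := { (inferInstance : Ring (Zs k A B)) with mul_comm := Zs_comm hBA }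
  let : Algebra k (Zs k A B) := Subalgebra.algebra _
  have : FiniteDimensional k (MonoidAlgebra k G) := Module.Finite.of_basis (MonoidAlgebra.basis G k)
  have : FiniteDimensional k (Zs k A B) :=
    FiniteDimensional.finiteDimensional_submodule (Subalgebra.toSubmodule (Zs k A B))
  have : IsArtinianRing (Zs k A B) := IsArtinianRing.of_finite k _
  have : IsReduced (Zs k A B) := by
    refine ⟨fun c hc => ?_⟩
    by_contra hne
    obtain ⟨d, hd, hd1⟩ := exists_pair (S' := (B : Set G)) (card_ne_zero_of_dvd hG A)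
      (fun a ha s hs => hn a ha s⁻¹ (inv_mem hs)) c.2 (fun h => hne (Subtype.ext h))
    obtain ⟨n, hn'⟩ := hc
    refine hd1 (coeff_one_of_isNilpotent hG ⟨n, ?_⟩)
    have h1 : Commute d (c : MonoidAlgebra k G) := commute_of_supported hd fun g hg => c.2.1 g fun h' => hg (hBA h')
    rw [h1.mul_pow]
    have h2 : (c : MonoidAlgebra k G) ^ n = 0 := by rw [← SubmonoidClass.coe_pow, hn']; rfl
    rw [h2, mul_zero]
  have hpt : ∀ m : MaximalSpectrum (Zs k A B), ∃ φ : Pts k A B, ∀ c, φ c = 0 → c ∈ m.asIdeal := by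
    intro m
    have := m.isMaximal
    let : Field (Zs k A B ⧸ m.asIdeal) := Ideal.Quotient.field _
    have hbij : Function.Bijective (algebraMap k (Zs k A B ⧸ m.asIdeal)) :=
      IsAlgClosed.algebraMap_bijective_of_isIntegral
    let e : k ≃ₐ[k] Zs k A B ⧸ m.asIdeal := AlgEquiv.ofBijective (Algebra.ofId k _) hbij
    refine ⟨e.symm.toAlgHom.comp (Ideal.Quotient.mkₐ k m.asIdeal), fun c hc => ?_⟩
    rw [← Ideal.Quotient.eq_zero_iff_mem]
    exact e.symm.injective (hc.trans (map_zero e.symm).symm)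
  have hker : ∀ φ : Pts k A B, (RingHom.ker φ.toRingHom).IsMaximal := fun φ =>
    RingHom.ker_isMaximal_of_surjective _ fun t => ⟨algebraMap k _ t, φ.commutes t⟩
  let toMax : Pts k A B → MaximalSpectrum (Zs k A B) := fun φ => ⟨_, hker φ⟩
  have hinj : Function.Injective toMax := by
    intro φ ψ h
    have h' : RingHom.ker φ.toRingHom = RingHom.ker ψ.toRingHom := congrArg MaximalSpectrum.asIdeal h
    refine AlgHom.ext fun c => ?_
    have h1 : c - algebraMap k _ (φ c) ∈ RingHom.ker φ.toRingHom := by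
      rw [RingHom.mem_ker]
      show φ (c - algebraMap k _ (φ c)) = 0
      rw [map_sub, φ.commutes]; exact sub_self _
    rw [h', RingHom.mem_ker] at h1
    change ψ (c - algebraMap k _ (φ c)) = 0 at h1
    rw [map_sub, ψ.commutes, sub_eq_zero] at h1
    exact h1.symm
  have hfin : Finite (Pts k A B) := Finite.of_injective toMax hinj
  refine ⟨hfin, fun c d h => ?_, fun f => ?_⟩
  · rw [← sub_eq_zero]
    apply (IsArtinianRing.equivPi (Zs k A B)).injective
    rw [map_zero]
    funext m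
    obtain ⟨φ, hφ⟩ := hpt m
    rw [IsArtinianRing.equivPi_apply, Pi.zero_apply]
    exact Ideal.Quotient.eq_zero_iff_mem.2 (hφ _ (by rw [map_sub, sub_eq_zero]; exact congrFun h φ))
  · let F : ∀ m : MaximalSpectrum (Zs k A B), Zs k A B ⧸ m.asIdeal :=
      fun m => if h : ∃ φ, toMax φ = m then algebraMap k _ (f h.choose) else 0
    refine ⟨(IsArtinianRing.equivPi (Zs k A B)).symm F, funext fun φ => ?_⟩
    have h1 := congrFun ((IsArtinianRing.equivPi (Zs k A B)).apply_symm_apply F) (toMax φ)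
    rw [IsArtinianRing.equivPi_apply] at h1
    have he : ∃ ψ, toMax ψ = toMax φ := ⟨φ, rfl⟩
    have h2 : F (toMax φ) = algebraMap k _ (f φ) := by
      simp only [F, dif_pos he]
      rw [hinj he.choose_spec]
    rw [h2] at h1
    have h3 : (IsArtinianRing.equivPi (Zs k A B)).symm F - algebraMap k _ (f φ) ∈ RingHom.ker φ.toRingHom :=
      Ideal.Quotient.eq_zero_iff_mem.1 (show Ideal.Quotient.mk (toMax φ).asIdeal _ = 0 by
        rw [map_sub, sub_eq_zero]; exact h1)
    rw [RingHom.mem_ker] at h3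
    change φ (_ - algebraMap k _ (f φ)) = 0 at h3
    rw [map_sub, φ.commutes, sub_eq_zero] at h3
    exact h3

end CfsgLib.CaminaPair.Points
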