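import Cfsg.Agent.Lib.CaminaPair.Stab
import Mathlib.GroupTheory.PGroup
import Mathlib.GroupTheory.OrderOfElement

/-!
# The stabiliser of a point in a Camina pair

For a Camina pair `(G, A)` of `p`-groups with noncyclic quotient a nontrivial point of the centre of the
group algebra of `A` has a stabiliser which is not cyclic over `A`.
-/

set_option autoImplicit false
set_option linter.unusedSectionVars false

namespace CfsgLib.CaminaPair.Points

variable {k : Type*} [Field k] [IsAlgClosed k] {G : Type*} [Group G] [Finite G] {A B : Subgroup G}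

/-- The translate of a coset. -/
def coset (t : G) (B : Subgroup G) : Set G := {g | t⁻¹ * g ∈ B}

theorem self_mem_coset (t : G) (B : Subgroup G) : t ∈ coset t B := by
  show t⁻¹ * t ∈ B
  rw [inv_mul_cancel]; exact B.one_mem

/-- An element with an idempotent has a quasi-inverse. -/
theorem exists_quasi_inverse {B₀ : Subgroup G} [B₀.Normal] (hB₀A : B₀ ≤ A) (hG : (Nat.card G : k) ≠ 0) (t : G)
    {φ : Pts k A B₀} {e : Zs k A B₀} (he : ∀ z, z * e = φ z • e) {S : Set G} (hS : ∀ g ∈ S, t⁻¹ * g ∈ B₀)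
    (hA : ∀ a ∈ A, a * t * a⁻¹ * t⁻¹ ∈ B₀) {c : MonoidAlgebra k G} (hc : c ∈ W k A S)
    (hce : c * (e : MonoidAlgebra k G) = c) (hne : c ≠ 0) :
    ∃ d ∈ W k A {g | g * t ∈ B₀}, ∃ α : k, α ≠ 0 ∧ d * (e : MonoidAlgebra k G) = d ∧
      d * c = α • (e : MonoidAlgebra k G) ∧ c * d = α • (e : MonoidAlgebra k G) := by
  have hn : B₀.Normal := inferInstance
  have heA : ∀ g ∉ A, (e : MonoidAlgebra k G).coeff g = 0 := fun g hg => e.2.1 g fun h => hg (hB₀A h)
  have hc' : c ∈ W k A (coset t B₀) := ⟨fun g hg => hc.1 g fun h => hg (hS g h), hc.2⟩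
  have hinv : ∀ a ∈ A, ∀ s ∈ coset t B₀, a * s⁻¹ * a⁻¹ ∈ {g | g * t ∈ B₀} := by
    intro a ha s hs
    show a * s⁻¹ * a⁻¹ * t ∈ B₀
    have h1 := hn.conj_mem _ (B₀.inv_mem hs) a
    have h2 := hn.conj_mem' _ (B₀.inv_mem (hA a ha)) t
    rw [show a * s⁻¹ * a⁻¹ * t = a * (t⁻¹ * s)⁻¹ * a⁻¹ * (t⁻¹ * (a * t * a⁻¹ * t⁻¹)⁻¹ * t) by group]
    exact B₀.mul_mem h1 h2
  obtain ⟨d', hd', hd'1⟩ := exists_pair (card_ne_zero_of_dvd hG A) hinv hc' hne
  refine ⟨d' * e, mul_mem_W hd' e.2 (fun g hg b hb => ?_), ?_⟩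
  · show g * b * t ∈ B₀
    rw [show g * b * t = g * t * (t⁻¹ * b * t) by group]
    exact B₀.mul_mem hg (hn.conj_mem' b hb t)
  have hee : (e : MonoidAlgebra k G) * e = φ e • (e : MonoidAlgebra k G) := congrArg Subtype.val (he e)
  have hdd : d' * (e : MonoidAlgebra k G) * e = d' * e ∨ φ e ≠ 1 := by
    by_cases h : φ e = 1
    · left; rw [mul_assoc, hee, h, one_smul]
    · exact Or.inr h
  have hphi : φ e = 1 := by
    have h1 : c * e * e = c := by rw [hce, hce]
    rw [mul_assoc, hee, mul_smul_comm, hce] at h1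
    have h2 : (φ e - 1) • c = 0 := by rw [sub_smul, one_smul, h1, sub_self]
    exact sub_eq_zero.1 ((smul_eq_zero.1 h2).resolve_right hne)
  have hde : d' * (e : MonoidAlgebra k G) * e = d' * e := hdd.resolve_right fun h => h hphi
  have hec : (e : MonoidAlgebra k G) * c = c := by rw [← (commute_of_supported hc heA).eq, hce]
  have hdc : d' * e * c = d' * c := by rw [mul_assoc, hec]
  have m1 : d' * e * c ∈ W k A (B₀ : Set G) := by
    rw [hdc]
    refine mul_mem_W hd' hc' fun g (hg : g * t ∈ B₀) h (hh : t⁻¹ * h ∈ B₀) => ?_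
    rw [show g * h = g * t * (t⁻¹ * h) by group]
    exact B₀.mul_mem hg hh
  have m2 : c * (d' * e) ∈ W k A (B₀ : Set G) := by
    refine mul_mem_W hc' (mul_mem_W hd' e.2 (U := {g | g * t ∈ B₀}) fun g hg b hb => ?_) fun g (hg : t⁻¹ * g ∈ B₀) h (hh : h * t ∈ B₀) => ?_
    · show g * b * t ∈ B₀
      rw [show g * b * t = g * t * (t⁻¹ * b * t) by group]
      exact B₀.mul_mem hg (hn.conj_mem' b hb t)
    · rw [show g * h = t * (t⁻¹ * g * (h * t)) * t⁻¹ by group]
      exact hn.conj_mem _ (B₀.mul_mem hg hh) t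
  have e1 : d' * e * c = φ ⟨_, m1⟩ • (e : MonoidAlgebra k G) := by
    have h := congrArg Subtype.val (he ⟨_, m1⟩)
    change d' * e * c * e = _ at h
    rw [mul_assoc (d' * (e : MonoidAlgebra k G)) c e, hce] at h
    exact h
  have e2 : c * (d' * e) = φ ⟨_, m2⟩ • (e : MonoidAlgebra k G) := by
    have h := congrArg Subtype.val (he ⟨_, m2⟩)
    change c * (d' * e) * e = _ at h
    rw [mul_assoc c, hde] at h
    exact h
  refine ⟨φ ⟨_, m1⟩, fun h0 => hd'1 ?_, hde, e1, ?_⟩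
  · rw [← hdc, e1, h0, zero_smul]; simp
  · rw [e2]
    congr 1
    have h3 : c * (d' * e * c) = c * (d' * e) * c := (mul_assoc _ _ _).symm
    rw [e1, e2, mul_smul_comm, smul_mul_assoc, hce, hec] at h3
    exact (smul_left_injective k hne h3).symm

/-- The idempotent part of a coset is at most a line. -/
theorem line {B₀ : Subgroup G} [B₀.Normal] (hB₀A : B₀ ≤ A) (hG : (Nat.card G : k) ≠ 0) (t : G)
    {φ : Pts k A B₀} {e : Zs k A B₀} (he : ∀ z, z * e = φ z • e) (hA : ∀ a ∈ A, a * t * a⁻¹ * t⁻¹ ∈ B₀)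
    {c c' : MonoidAlgebra k G} (hc : c ∈ W k A (coset t B₀)) (hc' : c' ∈ W k A (coset t B₀))
    (hce : c * (e : MonoidAlgebra k G) = c) (hce' : c' * (e : MonoidAlgebra k G) = c') (hne : c ≠ 0) :
    ∃ r : k, c' = r • c := by
  have hn : B₀.Normal := inferInstance
  obtain ⟨d, hd, α, hα, hde, hdc, hcd⟩ := exists_quasi_inverse hB₀A hG t he (fun g hg => hg) hA hc hce hne
  have m : d * c' ∈ W k A (B₀ : Set G) := by
    refine mul_mem_W hd hc' fun g (hg : g * t ∈ B₀) h (hh : t⁻¹ * h ∈ B₀) => ?_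
    rw [show g * h = g * t * (t⁻¹ * h) by group]
    exact B₀.mul_mem hg hh
  have h1 := congrArg Subtype.val (he ⟨_, m⟩)
  change d * c' * e = φ ⟨_, m⟩ • (e : MonoidAlgebra k G) at h1
  rw [mul_assoc, hce'] at h1
  have hec' : (e : MonoidAlgebra k G) * c' = c' := by
    rw [← (commute_of_supported hc' fun g hg => e.2.1 g fun h => hg (hB₀A h)).eq, hce']
  refine ⟨φ ⟨_, m⟩ / α, ?_⟩
  have h2 : c * (d * c') = c * d * c' := (mul_assoc _ _ _).symm
  rw [h1, hcd, mul_smul_comm, hce, smul_mul_assoc, hec'] at h2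
  rw [div_eq_inv_mul, ← smul_smul, h2, inv_smul_smul₀ hα]

/-- The elements centralising `t` modulo `A`. -/
def modCent (A : Subgroup G) [A.Normal] (t : G) : Subgroup G :=
  (Subgroup.centralizer {QuotientGroup.mk' A t}).comap (QuotientGroup.mk' A)

theorem mem_modCent [A.Normal] {t y : G} : y ∈ modCent A t ↔ t⁻¹ * (y * t * y⁻¹) ∈ A := by
  rw [modCent, Subgroup.mem_comap, Subgroup.mem_centralizer_singleton_iff, ← QuotientGroup.eq_one_iff]
  show QuotientGroup.mk' A y * QuotientGroup.mk' A t = QuotientGroup.mk' A t * QuotientGroup.mk' A y ↔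
    QuotientGroup.mk' A (t⁻¹ * (y * t * y⁻¹)) = 1
  simp only [map_mul, map_inv]
  rw [inv_mul_eq_one, eq_mul_inv_iff_mul_eq]
  exact eq_comm

/-- Orbit counting. -/
theorem card_range_mul {X : Type*} (H S : Subgroup G) (hSH : S ≤ H) (f : G → X)
    (hf : ∀ a ∈ H, ∀ b ∈ H, f a = f b ↔ a * b⁻¹ ∈ S) :
    Nat.card (Set.range fun y : H => f y) * Nat.card S = Nat.card H := by
  classical
  have := Fintype.ofFinite H
  have : Fintype (Set.range fun y : H => f y) := Fintype.ofFinite _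
  have hfib : ∀ z : Set.range fun y : H => f y, Nat.card {y : H // (Set.rangeFactorization fun y : H => f y) y = z} = Nat.card S := by
    rintro ⟨_, y₀, rfl⟩
    refine Nat.card_congr
      { toFun := fun y => ⟨(y.1 : G) * (y₀ : G)⁻¹, (hf _ y.1.2 _ y₀.2).1 (congrArg Subtype.val y.2)⟩
        invFun := fun s => ⟨⟨(s : G) * y₀, H.mul_mem (hSH s.2) y₀.2⟩, Subtype.ext ((hf _ (H.mul_mem (hSH s.2) y₀.2) _ y₀.2).2 (by simp))⟩
        left_inv := fun y => Subtype.ext (Subtype.ext (by simp))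
        right_inv := fun s => Subtype.ext (by simp) }
  conv_rhs => rw [← Nat.card_congr (Equiv.sigmaFiberEquiv (Set.rangeFactorization fun y : H => f y)), Nat.card_sigma,
    Finset.sum_congr rfl (fun z _ => hfib z), Finset.sum_const, Finset.card_univ, smul_eq_mul, ← Nat.card_eq_fintype_card]

/-- A Camina pair. -/
def IsPair' (A : Subgroup G) : Prop := ∀ g : G, g ∉ A → ∀ n ∈ A, IsConj g (g * n)

theorem card_modCent [hA : A.Normal] (hpair : IsPair' A) {t : G} (ht : t ∉ A) :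
    Nat.card (modCent A t) = Nat.card A * Nat.card (Subgroup.centralizer ({t} : Set G)) := by
  have hle : Subgroup.centralizer ({t} : Set G) ≤ modCent A t := fun y hy => by
    rw [mem_modCent, Subgroup.mem_centralizer_singleton_iff.1 hy]
    simp
  have h := card_range_mul (modCent A t) (Subgroup.centralizer ({t} : Set G)) hle (fun y => y⁻¹ * t * y) (fun a _ b _ => by
    rw [Subgroup.mem_centralizer_singleton_iff]
    constructor
    · intro e
      calc a * b⁻¹ * t = a * (b⁻¹ * t * b) * b⁻¹ := by group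
        _ = a * (a⁻¹ * t * a) * b⁻¹ := by rw [e]
        _ = t * (a * b⁻¹) := by group
    · intro e
      calc a⁻¹ * t * a = a⁻¹ * (t * (a * b⁻¹)) * b := by group
        _ = a⁻¹ * (a * b⁻¹ * t) * b := by rw [e]
        _ = b⁻¹ * t * b := by group)
  rw [← h]
  congr 1
  refine (Nat.card_congr (Equiv.ofBijective (fun a : A => (⟨t * a, ?_⟩ : Set.range fun y : modCent A t => (y : G)⁻¹ * t * y)) ⟨?_, ?_⟩)).symm
  · obtain ⟨c, hc⟩ := isConj_iff.1 (hpair t ht a a.2)
    have hcm : c ∈ modCent A t := by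
      rw [mem_modCent, hc, inv_mul_cancel_left]; exact a.2
    exact ⟨⟨c⁻¹, inv_mem hcm⟩, by show c⁻¹⁻¹ * t * c⁻¹ = t * a; rw [inv_inv, hc]⟩
  · intro a b hab
    exact Subtype.ext (mul_left_cancel (congrArg Subtype.val hab))
  · rintro ⟨_, y, rfl⟩
    have h1 := mem_modCent.1 ((modCent A t).inv_mem y.2)
    rw [inv_inv] at h1
    exact ⟨⟨_, h1⟩, Subtype.ext (by show t * (t⁻¹ * ((y : G)⁻¹ * t * y)) = _; group)⟩

theorem clsPerm_fixed_iff [A.Normal] [B.Normal] (t : G) (q : Cls A (B : Set G)) : clsPerm t q = q ↔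
    ∃ s : (B : Set G), Quotient.mk _ s = q ∧ ∃ a ∈ A, t * a * s * (t * a)⁻¹ = s := by
  induction q using Quotient.inductionOn with
  | h b =>
    rw [clsPerm_mk]
    constructor
    · intro h
      obtain ⟨c, hc, e⟩ : conjSetoid A (t * (b : G) * t⁻¹) (b : G) :=
        Quotient.exact (b := b) h
      refine ⟨b, rfl, t⁻¹ * c * t, normal_conj A t c hc, ?_⟩
      rw [show t * (t⁻¹ * c * t) = c * t by group]
      change c * (t * b * t⁻¹) * c⁻¹ = b at e
      rw [← show c * (t * b * t⁻¹) * c⁻¹ = c * t * b * (c * t)⁻¹ by group, e]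
    · rintro ⟨s, hs, a, ha, e⟩
      obtain ⟨c, hc, e'⟩ : conjSetoid A (s : G) (b : G) := Quotient.exact (a := s) (b := b) hs
      refine Quotient.sound (show conjSetoid A _ (b : G) from ?_)
      refine ⟨c * (t * (a * c⁻¹) * t⁻¹), A.mul_mem hc ((inferInstance : A.Normal).conj_mem _ (A.mul_mem ha (A.inv_mem hc)) t), ?_⟩
      show c * (t * (a * c⁻¹) * t⁻¹) * (t * b * t⁻¹) * (c * (t * (a * c⁻¹) * t⁻¹))⁻¹ = b
      calc c * (t * (a * c⁻¹) * t⁻¹) * (t * b * t⁻¹) * (c * (t * (a * c⁻¹) * t⁻¹))⁻¹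
          = c * (t * a * (c⁻¹ * b * c) * (t * a)⁻¹) * c⁻¹ := by group
        _ = c * (t * a * s * (t * a)⁻¹) * c⁻¹ := by rw [← e']; group
        _ = b := by rw [e, e']

theorem card_fixed_pairs [A.Normal] [B.Normal] (hBA : B ≤ A) (hG : (Nat.card G : k) ≠ 0) {p : ℕ} (hp : p.Prime)
    (hP : IsPGroup p G) (t : G) :
    Nat.card A * Nat.card {φ : Pts k A B // act t φ = φ} =
      Nat.card (Σ s : (B : Set G), {a : A // t * a * s * (t * a)⁻¹ = s}) := by
  rw [card_pairs A (B : Set G) (fun a _ b hb => (inferInstance : B.Normal).conj_mem b hb a) t (normal_conj A t),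
    card_fixed_pts hBA hG hp hP t]
  congr 1
  exact Nat.card_congr (Equiv.subtypeEquivRight (clsPerm_fixed_iff t))

/-- In a Camina pair the fixed points are as many as the centralising elements. -/
theorem card_fixed_of_pair [A.Normal] [hB : B.Normal] (hBA : B ≤ A) (hG : (Nat.card G : k) ≠ 0) {p : ℕ}
    (hp : p.Prime) (hP : IsPGroup p G) (hpair : IsPair' A) {t : G} (ht : t ∉ A) :
    Nat.card {φ : Pts k A B // act t φ = φ} = Nat.card {b : B // t * (b : G) * t⁻¹ = b} := by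
  refine Nat.eq_of_mul_eq_mul_left (Nat.card_pos (α := A)) ?_
  rw [card_fixed_pairs hBA hG hp hP, ← Nat.card_prod]
  choose y hy using fun a : A => isConj_iff.1 (hpair t ht a a.2)
  refine Nat.card_congr
    { toFun := fun x => (x.2.1, ⟨⟨(y x.2.1)⁻¹ * (x.1 : G) * y x.2.1, hB.conj_mem' _ x.1.2 _⟩, ?_⟩)
      invFun := fun x => ⟨⟨y x.1 * (x.2.1 : G) * (y x.1)⁻¹, hB.conj_mem _ x.2.1.2 _⟩, ⟨x.1, ?_⟩⟩
      left_inv := fun x => Sigma.subtype_ext (Subtype.ext (by group)) rfl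
      right_inv := fun x => Prod.ext rfl (Subtype.ext (Subtype.ext (by group))) }
  · obtain ⟨s, a, ha⟩ := x
    show t * ((y a)⁻¹ * s * y a) * t⁻¹ = (y a)⁻¹ * s * y a
    rw [← hy a] at ha
    calc t * ((y a)⁻¹ * s * y a) * t⁻¹ = (y a)⁻¹ * (y a * t * (y a)⁻¹ * s * (y a * t * (y a)⁻¹)⁻¹) * y a := by group
      _ = _ := by rw [ha]
  · obtain ⟨a, b, hb⟩ := x
    show t * a * (y a * b * (y a)⁻¹) * (t * a)⁻¹ = y a * b * (y a)⁻¹
    rw [← hy a]
    calc y a * t * (y a)⁻¹ * (y a * b * (y a)⁻¹) * (y a * t * (y a)⁻¹)⁻¹ = y a * (t * b * t⁻¹) * (y a)⁻¹ := by group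
      _ = _ := by rw [hb]

/-- The dimension of a coset. -/
theorem finrank_coset [A.Normal] (hG : (Nat.card G : k) ≠ 0) {p : ℕ} (hp : p.Prime) (hP : IsPGroup p G) (t : G) :
    Module.finrank k (W k A (coset t A)) = Nat.card {φ : Pts k A A // act t φ = φ} := by
  classical
  have hS : ∀ a ∈ A, ∀ s ∈ coset t A, a * s * a⁻¹ ∈ coset t A := by
    intro a ha s hs
    show t⁻¹ * (a * s * a⁻¹) ∈ A
    rw [show t⁻¹ * (a * s * a⁻¹) = t⁻¹ * a * t * (t⁻¹ * s) * a⁻¹ by group]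
    exact A.mul_mem (A.mul_mem (normal_conj A t a ha) hs) (A.inv_mem ha)
  obtain ⟨L, -⟩ := exists_funEquiv (k := k) hS
  have := Fintype.ofFinite (Cls A (coset t A))
  rw [← L.finrank_eq, Module.finrank_pi, ← Nat.card_eq_fintype_card]
  refine Nat.eq_of_mul_eq_mul_left (Nat.card_pos (α := A)) ?_
  rw [card_fixed_pairs le_rfl hG hp hP]
  have h := card_pairs A (coset t A) hS 1 (fun c hc => by simpa using hc)
  have hall : ∀ q : Cls A (coset t A), ∃ s : coset t A, Quotient.mk _ s = q ∧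
      ∃ a ∈ A, 1 * a * (s : G) * (1 * a)⁻¹ = s := fun q => by
    induction q using Quotient.inductionOn with
    | h s => exact ⟨s, rfl, 1, A.one_mem, by group⟩
  rw [Nat.card_congr (Equiv.subtypeUnivEquiv hall)] at h
  rw [← h]
  refine Nat.card_congr
    { toFun := fun x => ⟨⟨(x.2.1 : G), x.2.1.2⟩, ⟨⟨t⁻¹ * (x.1 : G), x.1.2⟩, ?_⟩⟩
      invFun := fun x => ⟨⟨t * (x.2.1 : G), ?_⟩, ⟨⟨(x.1 : G), x.1.2⟩, ?_⟩⟩
      left_inv := fun x => Sigma.subtype_ext (Subtype.ext (by simp)) rfl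
      right_inv := fun x => Sigma.subtype_ext rfl (Subtype.ext (by simp)) }
  · obtain ⟨s, a, ha⟩ := x
    show t * (t⁻¹ * s) * a * (t * (t⁻¹ * s))⁻¹ = a
    rw [mul_inv_cancel_left]
    calc (s : G) * a * (s : G)⁻¹ = (1 * (a : G) * s * (1 * (a : G))⁻¹) * a * (s : G)⁻¹ := by rw [ha]
      _ = a := by group
  · show t⁻¹ * (t * x.2.1) ∈ A
    rw [inv_mul_cancel_left]
    exact x.2.1.2
  · obtain ⟨b, a, hab⟩ := x
    show 1 * (b : G) * (t * a) * (1 * (b : G))⁻¹ = t * a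
    calc 1 * (b : G) * (t * a) * (1 * (b : G))⁻¹ = (b : G) * (t * a) * (b : G)⁻¹ := by group
      _ = t * a * b * (t * a)⁻¹ * (t * a) * (b : G)⁻¹ := by rw [hab]
      _ = _ := by group

end CfsgLib.CaminaPair.Points
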