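import Cfsg.Agent.Lib.CaminaPair.Basic
import Cfsg.Agent.Lib.CaminaPair.NoModule
import Cfsg.Agent.Lib.Transfer.Tate
import Cfsg.Agent.Lib.FT.Final
import Mathlib.GroupTheory.Subgroup.Centralizer

/-!
# The normal subgroup of a Camina pair is solvable
-/

set_option autoImplicit false
set_option linter.unusedSectionVars false
set_option linter.style.haveILetI false

namespace CfsgLib.CaminaPair

open Subgroup
open CfsgLib.TwoClassSizes (C mem_C mem_C_symm)

universe u

variable {G : Type u} [Group G] [Finite G] {N : Subgroup G} [N.Normal]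

/-- An element of prime order acting fixed-point-freely. -/
theorem nilpotent_of_fpf {g : G} {r : ℕ} (hr : r.Prime) (hgr : g ^ r = 1) (hfix : ∀ t ∈ N, t * g = g * t → t = 1)
    (hN1 : N ≠ ⊥) : Group.IsNilpotent N := by
  by_cases h1 : (MulAut.conjNormal g : MulAut N) = 1
  · exfalso
    apply hN1
    rw [eq_bot_iff]
    intro t ht
    rw [mem_bot]
    refine hfix t ht ?_
    have h2 := congrArg (fun φ : MulAut N => ((φ ⟨t, ht⟩ : N) : G)) h1
    simp only [MulAut.conjNormal_apply, MulAut.one_apply] at h2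
    exact (mul_inv_eq_iff_eq_mul.1 h2).symm
  refine Cfsg.Agent.S0033.result (MulAut.conjNormal g : MulAut N) ?_ r hr ?_
  · intro t ht
    refine Subtype.ext (hfix t t.2 ?_)
    have h2 : g * (t : G) * g⁻¹ = t := by simpa using congrArg Subtype.val ht
    exact (mul_inv_eq_iff_eq_mul.1 h2).symm
  · haveI := Fact.mk hr
    refine orderOf_eq_prime ?_ h1
    rw [← map_pow, hgr, map_one]

theorem nilpotent_of_frobenius (hfpf : ∀ x ∈ N, x ≠ 1 → C x ≤ N) (hN1 : N ≠ ⊥) (hN2 : N ≠ ⊤) :
    Group.IsNilpotent N := by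
  have hne : Nat.card (G ⧸ N) ≠ 1 := fun h => hN2 (Subgroup.index_eq_one.1 ((Subgroup.index_eq_card N).trans h))
  obtain ⟨r, hr, hrd⟩ := Nat.exists_prime_and_dvd hne
  haveI := Fact.mk hr
  obtain ⟨q, hq⟩ := exists_prime_orderOf_dvd_card' r hrd
  obtain ⟨g, rfl⟩ := QuotientGroup.mk'_surjective N q
  have hgN : g ∉ N := fun h => by
    rw [show QuotientGroup.mk' N g = 1 from (QuotientGroup.eq_one_iff g).2 h, orderOf_one] at hq
    exact hr.one_lt.ne hq
  have hgr : g ^ r ∈ N := by
    rw [← QuotientGroup.eq_one_iff, ← QuotientGroup.mk'_apply, map_pow, ← hq, pow_orderOf_eq_one]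
  have hg1 : g ^ r = 1 := by
    by_contra h
    exact hgN (hfpf _ hgr h (mem_C.2 ((Commute.refl g).pow_right r).eq))
  refine nilpotent_of_fpf hr hg1 (fun t ht htg => ?_) hN1
  by_contra h
  exact hgN (hfpf t ht h (mem_C.2 htg.symm))

theorem isSolvable_of_nilpotent {H : Type*} [Group H] (h : Group.IsNilpotent H) : Group.IsSolvable H := by
  haveI := h
  infer_instance

/-- A cyclic quotient of prime power order. -/
theorem IsPair.nilpotent_of_cyclic (h : IsPair N) (hN1 : N ≠ ⊥) (hN2 : N ≠ ⊤) {p : ℕ} (hp : p.Prime) {i : ℕ}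
    (hi : N.index = p ^ i) {g : G} (hg : N ⊔ zpowers g = ⊤) : Group.IsNilpotent N := by
  have hgen : ∀ q : G ⧸ N, q ∈ zpowers (QuotientGroup.mk' N g) := by
    intro q
    obtain ⟨x, rfl⟩ := QuotientGroup.mk'_surjective N q
    obtain ⟨a, ha, b, hb, rfl⟩ := mem_sup_of_normal_left.1 (show x ∈ N ⊔ zpowers g by rw [hg]; exact mem_top x)
    obtain ⟨j, rfl⟩ := mem_zpowers_iff.1 hb
    rw [map_mul, show QuotientGroup.mk' N a = 1 from (QuotientGroup.eq_one_iff a).2 ha, one_mul, map_zpow]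
    exact zpow_mem (mem_zpowers _) j
  have hord : orderOf (QuotientGroup.mk' N g) = N.index := by
    rw [Subgroup.index_eq_card]; exact orderOf_eq_card_of_forall_mem_zpowers hgen
  have hi0 : i ≠ 0 := fun h0 => hN2 (Subgroup.index_eq_one.1 (by rw [hi, h0, pow_zero]))
  have hidx : N.index ≠ 1 := fun h' => hN2 (Subgroup.index_eq_one.1 h')
  have hgN : g ∉ N := fun h' => hidx (by
    rw [← hord, show QuotientGroup.mk' N g = 1 from (QuotientGroup.eq_one_iff g).2 h', orderOf_one])
  have hle : ∀ x, x ∉ N → Nat.card (C x) ≤ N.index := fun x hx =>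
    Nat.le_of_dvd (Nat.pos_of_ne_zero Subgroup.index_ne_zero_of_finite) (h.card_C_dvd_index hx)
  have hgC : zpowers g ≤ C g := zpowers_le.2 (mem_C.2 rfl)
  have hog : orderOf g = N.index := by
    refine le_antisymm ?_ ?_
    · rw [← Nat.card_zpowers]
      exact (Nat.le_of_dvd Nat.card_pos (Subgroup.card_dvd_of_le hgC)).trans (hle g hgN)
    · rw [← hord]
      exact Nat.le_of_dvd (orderOf_pos g) (orderOf_map_dvd _ g)
  set g₁ := g ^ p ^ (i - 1) with hg₁
  have hg₁N : g₁ ∉ N := fun h' => by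
    have h1 : (QuotientGroup.mk' N g) ^ p ^ (i - 1) = 1 := by
      rw [← map_pow]; exact (QuotientGroup.eq_one_iff _).2 h'
    have h2 := Nat.le_of_dvd (Nat.pow_pos hp.pos) (orderOf_dvd_of_pow_eq_one h1)
    rw [hord, hi] at h2
    have h3 := (Nat.pow_le_pow_iff_right hp.one_lt).1 h2
    omega
  have hg₁p : g₁ ^ p = 1 := by
    rw [hg₁, ← pow_mul, ← pow_succ, show i - 1 + 1 = i by omega, ← hi, ← hog, pow_orderOf_eq_one]
  refine nilpotent_of_fpf hp hg₁p (fun t ht htg => ?_) hN1
  have h1 : zpowers g ≤ C g₁ := zpowers_le.2 (mem_C.2 ((Commute.refl g).pow_right _).eq)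
  have h2 : zpowers g = C g₁ := Subgroup.eq_of_le_of_card_ge h1 (by
    rw [Nat.card_zpowers, hog]; exact hle g₁ hg₁N)
  obtain ⟨j, rfl⟩ := mem_zpowers_iff.1 (h2.symm ▸ (mem_C.2 htg : t ∈ C g₁) : t ∈ zpowers g)
  have h3 : (QuotientGroup.mk' N g) ^ j = 1 := by rw [← map_zpow]; exact (QuotientGroup.eq_one_iff _).2 ht
  rw [← orderOf_dvd_iff_zpow_eq_one] at h3 ⊢
  rwa [hog, ← hord]

/-- The kernel of a Camina pair is solvable. -/
theorem IsPair.solvable (h : IsPair N) (hN1 : N ≠ ⊥) (hN2 : N ≠ ⊤) : Group.IsSolvable N := by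
  classical
  rcases h.trichotomy hN1 hN2 with hf | hN | hI
  · exact isSolvable_of_nilpotent (nilpotent_of_frobenius hf hN1 hN2)
  · obtain ⟨p, i, hp, -, hi⟩ := (isPrimePow_nat_iff _).1 hN
    haveI := Fact.mk hp
    exact isSolvable_of_nilpotent (IsPGroup.of_card hi.symm).isNilpotent
  obtain ⟨p, i, hp, hi0, hi⟩ := (isPrimePow_nat_iff _).1 hI
  haveI := Fact.mk hp
  by_cases hdvd : ¬ p ∣ Nat.card N
  · refine isSolvable_of_nilpotent (nilpotent_of_frobenius (h.fpf_of_coprime ?_) hN1 hN2)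
    rw [← hi]
    exact ((hp.coprime_iff_not_dvd.2 hdvd).symm).pow_right i
  by_cases hcyc : ∃ g : G, N ⊔ zpowers g = ⊤
  · obtain ⟨g, hg⟩ := hcyc
    exact isSolvable_of_nilpotent (h.nilpotent_of_cyclic hN1 hN2 hp hi.symm hg)
  push Not at hcyc
  -- supplements
  have hQ : ∀ H : Subgroup G, N ⊔ H = ⊤ → ∀ Q : Sylow p H, N ⊔ (Q : Subgroup H).map H.subtype = ⊤ := by
    intro H hH Q
    have hsurj : Function.Surjective ((QuotientGroup.mk' N).comp H.subtype) := by
      intro q
      obtain ⟨x, rfl⟩ := QuotientGroup.mk'_surjective N q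
      obtain ⟨a, ha, b, hb, rfl⟩ := mem_sup_of_normal_left.1 (show x ∈ N ⊔ H by rw [hH]; exact mem_top x)
      exact ⟨⟨b, hb⟩, by simp [(QuotientGroup.eq_one_iff a).2 ha]⟩
    have hP : IsPGroup p (G ⧸ N) := IsPGroup.of_card (n := i) (by rw [← Subgroup.index_eq_card]; exact hi.symm)
    have htop : (Q.mapSurjective hsurj : Subgroup (G ⧸ N)) = ⊤ :=
      ((Q.mapSurjective hsurj).3 (hP.of_equiv Subgroup.topEquiv.symm) le_top).symm
    rw [Sylow.coe_mapSurjective, ← Subgroup.map_map] at htop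
    have h1 := congrArg (Subgroup.comap (QuotientGroup.mk' N)) htop
    rw [Subgroup.comap_map_eq, QuotientGroup.ker_mk', Subgroup.comap_top, sup_comm] at h1
    exact h1
  rcases hp.eq_two_or_odd' with rfl | hodd
  · -- `p = 2`
    obtain ⟨P⟩ := (inferInstance : Nonempty (Sylow 2 G))
    have hPtop : N ⊔ (P : Subgroup G) = ⊤ := by
      have := hQ ⊤ (sup_top_eq N) (P.subtype le_top)
      rwa [Sylow.coe_subtype, Subgroup.subgroupOf_map_subtype, inf_top_eq] at this
    obtain ⟨hpair, -⟩ := h.supplement (P : Subgroup G) hPtop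
    have hPN : ¬ (P : Subgroup G) ≤ N := fun h' => hN2 (by rw [← hPtop, sup_eq_left.2 h'])
    obtain ⟨g, hgP, hgN⟩ := SetLike.not_le_iff_exists.1 hPN
    have hfr : N ⊓ (P : Subgroup G) ≤ (frattini P).map (P : Subgroup G).subtype := by
      rintro a ⟨haN, haP⟩
      refine ⟨⟨a, haP⟩, CfsgLib.PGroup.commutator_le_frattini P.2 ?_, rfl⟩
      obtain ⟨c, hc⟩ := isConj_iff.1 (hpair ⟨g, hgP⟩ hgN ⟨a, haP⟩ haN)
      rw [show (⟨a, haP⟩ : P) = (⟨g, hgP⟩ : P)⁻¹ * c * (⟨g, hgP⟩ : P) * c⁻¹ by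
        rw [mul_assoc, mul_assoc, ← mul_assoc c, hc]; group]
      have h2 := Subgroup.commutator_mem_commutator (mem_top ((⟨g, hgP⟩ : P)⁻¹)) (mem_top c)
      rw [commutatorElement_def, inv_inv] at h2
      exact h2
    obtain ⟨S, K, hK, hKS⟩ := CfsgLib.Transfer.hasNormalPComplement_of_inf_le_frattini P N hfr
    haveI := hK
    have hKodd : Odd (Nat.card K) := by
      rw [← Nat.not_even_iff_odd, even_iff_two_dvd]
      intro hd
      apply S.not_dvd_index
      rwa [← hKS.index_eq_card] at hd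
    haveI := CfsgLib.FT.solvable_of_odd hKodd
    have hquot : Group.IsSolvable (N ⧸ K) := by
      refine isSolvable_of_nilpotent (IsPGroup.isNilpotent (p := 2) ?_)
      obtain ⟨j, hj⟩ := IsPGroup.iff_card.1 S.2
      exact IsPGroup.of_card (n := j) (by rw [← Subgroup.index_eq_card, hKS.symm.index_eq_card, hj])
    exact Group.isSolvable_of_ker_le_range K.subtype (QuotientGroup.mk' K) (by rw [QuotientGroup.ker_mk', Subgroup.range_subtype])
  · -- `p` odd: `N` is a `p`-group
    have hp2 : p ≠ 2 := fun h' => by subst h'; exact (Nat.not_even_iff_odd.2 hodd) even_two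
    refine isSolvable_of_nilpotent (IsPGroup.isNilpotent (p := p) ?_)
    refine IsPGroup.of_card (n := (Nat.card N).primeFactorsList.length) ?_
    refine Nat.eq_prime_pow_of_unique_prime_dvd Nat.card_pos.ne' fun {r} hr hrd => ?_
    by_contra hrp
    haveI := Fact.mk hr
    obtain ⟨R⟩ := (inferInstance : Nonempty (Sylow r N))
    set R' : Subgroup G := (R : Subgroup N).map N.subtype
    have hH : N ⊔ normalizer (R' : Set G) = ⊤ := by rw [sup_comm]; exact Sylow.normalizer_sup_eq_top R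
    obtain ⟨Q₀⟩ := (inferInstance : Nonempty (Sylow p (normalizer (R' : Set G))))
    set Q : Subgroup G := (Q₀ : Subgroup (normalizer (R' : Set G))).map (normalizer (R' : Set G)).subtype
    have hQN : N ⊔ Q = ⊤ := hQ _ hH Q₀
    have hQp : IsPGroup p Q := Q₀.2.map _
    have hQR : Q ≤ normalizer (R' : Set G) := map_subtype_le _
    obtain ⟨hpair, hCQ⟩ := h.supplement Q hQN
    have hnc : ∀ t : Q, N.subgroupOf Q ⊔ zpowers t ≠ ⊤ := by
      intro t ht
      apply hcyc (t : G)
      rw [eq_top_iff, ← hQN]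
      refine sup_le le_sup_left fun x hx => ?_
      obtain ⟨a, ha, b, hb, hab⟩ := mem_sup_of_normal_left.1
        (show (⟨x, hx⟩ : Q) ∈ N.subgroupOf Q ⊔ zpowers t by rw [ht]; exact mem_top _)
      obtain ⟨j, rfl⟩ := mem_zpowers_iff.1 hb
      rw [show x = (a : G) * (t : G) ^ j from (congrArg Subtype.val hab).symm]
      exact mul_mem_sup ha (zpow_mem (mem_zpowers _) j)
    -- the module
    let V : Subgroup G :=
      { carrier := {v | v ∈ R' ∧ v ^ r = 1 ∧ ∀ s ∈ R', v * s = s * v}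
        one_mem' := ⟨R'.one_mem, one_pow r, fun s _ => by rw [one_mul, mul_one]⟩
        mul_mem' := fun {a b} ⟨ha, ha', ha''⟩ ⟨hb, hb', hb''⟩ => ⟨R'.mul_mem ha hb, by
          rw [(show Commute a b from ha'' b hb).mul_pow, ha', hb', one_mul],
          fun s hs => (Commute.mul_left (ha'' s hs) (hb'' s hs)).eq⟩
        inv_mem' := fun {a} ⟨ha, ha', ha''⟩ => ⟨R'.inv_mem ha, by rw [inv_pow, ha', inv_one],
          fun s hs => (Commute.inv_left (ha'' s hs)).eq⟩ }
    let : CommGroup V := { (inferInstance : Group V) with mul_comm := fun a b => Subtype.ext (a.2.2.2 b b.2.1) }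
    have hV1 : Nontrivial V := by
      have hR1 : (R : Subgroup N) ≠ ⊥ := fun h' => by
        have h1 := R.card_eq_multiplicity
        rw [h', Subgroup.card_bot] at h1
        exact absurd h1.symm (Nat.one_lt_pow ((Nat.Prime.factorization_pos_of_dvd hr Nat.card_pos.ne' hrd).ne') hr.one_lt).ne'
      haveI : Nontrivial (R : Subgroup N) := (Subgroup.nontrivial_iff_ne_bot _).2 hR1
      haveI := R.2.center_nontrivial
      obtain ⟨z, hz⟩ := exists_prime_orderOf_dvd_card' (G := center (R : Subgroup N)) r (by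
        obtain ⟨j, hj⟩ := IsPGroup.iff_card.1 (R.2.to_subgroup (center (R : Subgroup N)))
        rw [hj]
        refine dvd_pow_self r fun h0 => ?_
        rw [h0, pow_zero] at hj
        have h1 := Finite.one_lt_card (α := center (R : Subgroup N))
        omega)
      have hzm : (((z : (R : Subgroup N)) : N) : G) ∈ V := by
        refine ⟨⟨_, (z : (R : Subgroup N)).2, rfl⟩, ?_, ?_⟩
        · have h1 : z ^ r = 1 := orderOf_dvd_iff_pow_eq_one.1 (dvd_of_eq hz)
          have h2 := congrArg (fun w : center (R : Subgroup N) => (((w : (R : Subgroup N)) : N) : G)) h1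
          simpa using h2
        · rintro _ ⟨s, hs, rfl⟩
          exact (congrArg (fun w : (R : Subgroup N) => ((w : N) : G)) (mem_center_iff.1 z.2 ⟨s, hs⟩)).symm
      refine ⟨⟨⟨_, hzm⟩, 1, fun h' => ?_⟩⟩
      have h2 : (((z : (R : Subgroup N)) : N) : G) = 1 := congrArg (fun w : V => (w : G)) h'
      have h1 : z = 1 := by
        apply Subtype.ext; apply Subtype.ext; apply Subtype.ext
        simpa using h2
      rw [h1, orderOf_one] at hz
      exact hr.one_lt.ne hz
    have hQV : Q ≤ normalizer (V : Set G) := by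
      have hfwd : ∀ x ∈ normalizer (R' : Set G), ∀ v ∈ V, x * v * x⁻¹ ∈ V := by
        rintro x hx v ⟨hv, hv', hv''⟩
        refine ⟨(mem_normalizer_iff.1 hx v).1 hv, by rw [conj_pow, hv', mul_one, mul_inv_cancel], fun s hs => ?_⟩
        have hs' : x⁻¹ * s * x ∈ R' := (mem_normalizer_iff.1 hx _).2 (by
          rw [show x * (x⁻¹ * s * x) * x⁻¹ = s by group]; exact hs)
        calc x * v * x⁻¹ * s = x * (v * (x⁻¹ * s * x)) * x⁻¹ := by group
          _ = x * (x⁻¹ * s * x * v) * x⁻¹ := by rw [hv'' _ hs']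
          _ = s * (x * v * x⁻¹) := by group
      intro x hx
      rw [mem_normalizer_iff]
      refine fun v => ⟨hfwd x (hQR hx) v, fun hv => ?_⟩
      have h1 := hfwd x⁻¹ ((normalizer _).inv_mem (hQR hx)) _ hv
      rwa [show x⁻¹ * (x * v * x⁻¹) * x⁻¹⁻¹ = v by group] at h1
    refine no_module (N.subgroupOf Q) hp hp2 hQp hpair hnc hrp (V := V) (fun a => Subtype.ext a.2.2.1)
      ((normalizerMonoidHom V).comp (Subgroup.inclusion hQV)) fun g hg a ha => ?_
    have h1 : (g : G) * (a : G) * (g : G)⁻¹ = a := congrArg Subtype.val ha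
    have h2 : (a : G) ∈ Q := hCQ g g.2 hg (mem_C_symm.1 (mem_C.2 (mul_inv_eq_iff_eq_mul.1 h1)))
    obtain ⟨j, hj⟩ := hQp ⟨(a : G), h2⟩
    refine Subtype.ext (orderOf_eq_one_iff.1 (Nat.eq_one_of_dvd_coprimes (((Nat.coprime_primes hr hp).2 hrp).pow_right j)
      (orderOf_dvd_of_pow_eq_one a.2.2.1) (orderOf_dvd_of_pow_eq_one ?_)))
    simpa using congrArg Subtype.val hj

end CfsgLib.CaminaPair
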