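import Cfsg.Agent.Lib.CaminaPair.Points
import Mathlib.Algebra.MonoidAlgebra.Lift

/-!
# The action on the points, and the counting of fixed points
-/

set_option autoImplicit false
set_option linter.unusedSectionVars false

namespace CfsgLib.CaminaPair.Points

variable {k : Type*} [Field k] {G : Type*} [Group G] {A B : Subgroup G}

theorem normal_conj (A : Subgroup G) [hA : A.Normal] (g a : G) (ha : a ∈ A) : g⁻¹ * a * g ∈ A :=
  hA.conj_mem' a ha g

theorem cj_algebraMap (g : G) (t : k) : cj g (algebraMap k (MonoidAlgebra k G) t) = algebraMap k _ t := by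
  rw [cj, Algebra.algebraMap_eq_smul_one, mul_smul_comm, mul_one, smul_mul_assoc, u_mul_inv]

theorem cj_add (g : G) (c d : MonoidAlgebra k G) : cj g (c + d) = cj g c + cj g d := by
  rw [cj, cj, cj, mul_add, add_mul]

theorem cj_zero (g : G) : cj g (0 : MonoidAlgebra k G) = 0 := by rw [cj, mul_zero, zero_mul]

theorem cj_one_elem (g : G) : cj g (1 : MonoidAlgebra k G) = 1 := by rw [cj, mul_one, u_mul_inv]

theorem cj_mem_Zs [A.Normal] [hB : B.Normal] (g : G) {c : MonoidAlgebra k G} (hc : c ∈ Zs k A B) :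
    cj g c ∈ Zs k A B := by
  refine mem_Zs.2 (cj_mem_W (normal_conj A g) (fun h hh => ?_) (mem_Zs.1 hc))
  have := hB.conj_mem _ hh g
  rwa [show g * (g⁻¹ * h * g) * g⁻¹ = h by group] at this

/-- Conjugation as an endomorphism of `Zs`. -/
noncomputable def cjHom [A.Normal] [B.Normal] (g : G) : Zs k A B →ₐ[k] Zs k A B where
  toFun c := ⟨cj g c.1, cj_mem_Zs g c.2⟩
  map_one' := Subtype.ext (cj_one_elem g)
  map_mul' c d := Subtype.ext (cj_mul g c.1 d.1)
  map_zero' := Subtype.ext (cj_zero g)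
  map_add' c d := Subtype.ext (cj_add g c.1 d.1)
  commutes' t := Subtype.ext (cj_algebraMap g t)

@[simp] theorem coe_cjHom [A.Normal] [B.Normal] (g : G) (c : Zs k A B) :
    ((cjHom g c : Zs k A B) : MonoidAlgebra k G) = cj g c := rfl

/-- The action on points. -/
noncomputable def act [A.Normal] [B.Normal] (g : G) (φ : Pts k A B) : Pts k A B := φ.comp (cjHom g)

theorem act_apply [A.Normal] [B.Normal] (g : G) (φ : Pts k A B) (c : Zs k A B) : act g φ c = φ (cjHom g c) := rfl

theorem act_one [A.Normal] [B.Normal] (φ : Pts k A B) : act 1 φ = φ :=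
  AlgHom.ext fun c => congrArg φ (Subtype.ext (cj_one _))

theorem act_mul [A.Normal] [B.Normal] (g h : G) (φ : Pts k A B) : act (g * h) φ = act h (act g φ) :=
  AlgHom.ext fun c => congrArg φ (Subtype.ext (cj_cj g h _).symm)

theorem act_of_mem [A.Normal] [B.Normal] {a : G} (ha : a ∈ A) (φ : Pts k A B) : act a φ = φ :=
  AlgHom.ext fun c => congrArg φ (Subtype.ext ((cj_eq_iff a _).2 (c.2.2 a ha)))

/-- The stabiliser of a point. -/
noncomputable def stab [A.Normal] [B.Normal] (φ : Pts k A B) : Subgroup G where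
  carrier := {g | act g φ = φ}
  one_mem' := act_one φ
  mul_mem' := fun {g h} (hg : act g φ = φ) (hh : act h φ = φ) => show act (g * h) φ = φ by rw [act_mul, hg, hh]
  inv_mem' := fun {g} (hg : act g φ = φ) => show act g⁻¹ φ = φ by
    conv_lhs => rw [← hg, ← act_mul, mul_inv_cancel, act_one]

theorem mem_stab [A.Normal] [B.Normal] {φ : Pts k A B} {g : G} : g ∈ stab φ ↔ act g φ = φ := Iff.rfl

theorem le_stab [A.Normal] [B.Normal] (φ : Pts k A B) : A ≤ stab φ := fun _ ha => act_of_mem ha φ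

/-- Restriction of points. -/
noncomputable def res {B₀ : Subgroup G} (h : B₀ ≤ B) (φ : Pts k A B) : Pts k A B₀ :=
  φ.comp (Subalgebra.inclusion (Zs_mono h))

theorem act_res [A.Normal] [B.Normal] {B₀ : Subgroup G} [B₀.Normal] (h : B₀ ≤ B) (g : G) (φ : Pts k A B) :
    act g (res h φ) = res h (act g φ) := rfl

/-- The trivial point. -/
noncomputable def triv (k : Type*) [Field k] {G : Type*} [Group G] (A B : Subgroup G) : Pts k A B :=
  ((MonoidAlgebra.lift k k G) 1).comp (Zs k A B).val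

theorem lift_one_u (g : G) : (MonoidAlgebra.lift k k G 1) (u g) = 1 := by
  simp [u, MonoidAlgebra.lift_single]

theorem act_triv [A.Normal] [B.Normal] (g : G) : act g (triv k A B) = triv k A B :=
  AlgHom.ext fun c => by
    show (MonoidAlgebra.lift k k G 1) (cj g c) = (MonoidAlgebra.lift k k G 1) (c : MonoidAlgebra k G)
    rw [cj, map_mul, map_mul, lift_one_u, lift_one_u, one_mul, mul_one]

variable [IsAlgClosed k] [Finite G]

theorem finite_pts (hBA : B ≤ A) [B.Normal] (hG : (Nat.card G : k) ≠ 0) : Finite (Pts k A B) :=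
  (eval_bijective hBA (fun a _ b hb => (inferInstance : B.Normal).conj_mem b hb a) hG).1

theorem pts_bijective (hBA : B ≤ A) [B.Normal] (hG : (Nat.card G : k) ≠ 0) :
    Function.Bijective (fun (c : Zs k A B) (φ : Pts k A B) => φ c) :=
  (eval_bijective hBA (fun a _ b hb => (inferInstance : B.Normal).conj_mem b hb a) hG).2

/-- The idempotent of a point. -/
theorem exists_idem (hBA : B ≤ A) [B.Normal] (hG : (Nat.card G : k) ≠ 0) (φ : Pts k A B) :
    ∃ e : Zs k A B, φ e = 1 ∧ (∀ ψ, ψ ≠ φ → ψ e = 0) ∧ (∀ z, z * e = φ z • e) := by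
  classical
  obtain ⟨e, he⟩ := (pts_bijective hBA hG).2 (fun ψ => if ψ = φ then 1 else 0)
  have he' : ∀ ψ : Pts k A B, ψ e = if ψ = φ then 1 else 0 := congrFun he
  refine ⟨e, by rw [he', if_pos rfl], fun ψ hψ => by rw [he', if_neg hψ], fun z => ?_⟩
  apply (pts_bijective hBA hG).1
  funext ψ
  simp only [map_mul, map_smul, he', smul_eq_mul]
  split_ifs with h
  · subst h; rfl
  · rw [mul_zero, mul_zero]

theorem idem_mul_self {e : Zs k A B} {φ : Pts k A B} (h1 : φ e = 1) (h2 : ∀ z, z * e = φ z • e) : e * e = e := by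
  rw [h2 e, h1, one_smul]

/-! ### Classes -/

/-- The classes of `A` acting by conjugation. -/
def conjSetoid (A : Subgroup G) : Setoid G where
  r g h := ∃ a ∈ A, a * g * a⁻¹ = h
  iseqv :=
    ⟨fun g => ⟨1, A.one_mem, by simp⟩,
     fun {g h} ⟨a, ha, e⟩ => ⟨a⁻¹, A.inv_mem ha, by rw [← e]; group⟩,
     fun {g h i} ⟨a, ha, e⟩ ⟨b, hb, e'⟩ => ⟨b * a, A.mul_mem hb ha, by rw [← e', ← e]; group⟩⟩

/-- The classes inside a set. -/
abbrev Cls (A : Subgroup G) (S : Set G) := Quotient (Setoid.comap (Subtype.val : S → G) (conjSetoid A))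

/-- The element of `W` with given values on the classes. -/
noncomputable def ofFun {S : Set G} (f : Cls A S → k) : MonoidAlgebra k G :=
  open Classical in
  MonoidAlgebra.ofCoeff (Finsupp.equivFunOnFinite.symm fun g => if h : g ∈ S then f (Quotient.mk _ ⟨g, h⟩) else 0)

theorem coeff_ofFun {S : Set G} (f : Cls A S → k) (g : S) : (ofFun f).coeff g = f (Quotient.mk _ g) := by
  classical
  simp [ofFun, g.2]

theorem coeff_ofFun_of_notMem {S : Set G} (f : Cls A S → k) {g : G} (h : g ∉ S) : (ofFun f).coeff g = 0 := by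
  classical
  simp [ofFun, h]

/-- `W` is the space of functions on the classes. -/
theorem exists_funEquiv {S : Set G} (hS : ∀ a ∈ A, ∀ s ∈ S, a * s * a⁻¹ ∈ S) :
    ∃ L : (Cls A S → k) ≃ₗ[k] W k A S, ∀ f, (L f : MonoidAlgebra k G) = ofFun f := by
  classical
  let L : (Cls A S → k) →ₗ[k] W k A S :=
    { toFun := fun f => ⟨ofFun f, fun g hg => coeff_ofFun_of_notMem f hg, commutes_of_coeff fun a ha g => by
        by_cases hg : g ∈ S
        · exact (coeff_ofFun f ⟨_, hS a ha g hg⟩).trans ((congrArg f (Quotient.sound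
            (show conjSetoid A (a * g * a⁻¹) g from ⟨a⁻¹, inv_mem ha, by group⟩))).trans (coeff_ofFun f ⟨g, hg⟩).symm)
        · rw [coeff_ofFun_of_notMem f hg, coeff_ofFun_of_notMem f]
          intro h'
          have := hS a⁻¹ (inv_mem ha) _ h'
          rw [show a⁻¹ * (a * g * a⁻¹) * a⁻¹⁻¹ = g by group] at this
          exact hg this⟩
      map_add' := fun f f' => by
        apply Subtype.ext
        ext g
        by_cases hg : g ∈ S
        · simp [ofFun, hg]
        · simp [ofFun, hg]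
      map_smul' := fun t f => by
        apply Subtype.ext
        ext g
        by_cases hg : g ∈ S
        · simp [ofFun, hg]
        · simp [ofFun, hg] }
  have hL : Function.Bijective L := by
    refine ⟨fun f f' h => funext fun q => ?_, fun c => ?_⟩
    · induction q using Quotient.inductionOn with
      | h g =>
        rw [← coeff_ofFun f g, ← coeff_ofFun f' g]
        exact congrArg (fun c : W k A S => (c : MonoidAlgebra k G).coeff (g : G)) h
    · refine ⟨Quotient.lift (fun g : S => (c : MonoidAlgebra k G).coeff (g : G)) ?_, Subtype.ext ?_⟩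
      · rintro g h ⟨a, ha, e⟩
        simp only [← e, coeff_conj_eq c.2 ha]
      · ext g
        by_cases hg : g ∈ S
        · exact coeff_ofFun _ ⟨g, hg⟩
        · exact (coeff_ofFun_of_notMem _ hg).trans (c.2.1 g hg).symm
  exact ⟨LinearEquiv.ofBijective L hL, fun f => rfl⟩

/-- Conjugation on the classes inside a normal subgroup. -/
noncomputable def clsPerm [hA : A.Normal] [hB : B.Normal] : G →* Equiv.Perm (Cls A (B : Set G)) :=
  MonoidHom.mk' (fun t => Quotient.congr
    { toFun := fun b => ⟨t * b * t⁻¹, hB.conj_mem _ b.2 t⟩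
      invFun := fun b => ⟨t⁻¹ * b * t, hB.conj_mem' _ b.2 t⟩
      left_inv := fun b => Subtype.ext (by group)
      right_inv := fun b => Subtype.ext (by group) }
    (fun b b' => by
      show (∃ a ∈ A, _) ↔ ∃ a ∈ A, _
      constructor
      · rintro ⟨a, ha, e⟩
        refine ⟨t * a * t⁻¹, hA.conj_mem a ha t, ?_⟩
        show t * a * t⁻¹ * (t * b * t⁻¹) * (t * a * t⁻¹)⁻¹ = t * b' * t⁻¹
        rw [← e]; group
      · rintro ⟨a, ha, e⟩
        refine ⟨t⁻¹ * a * t, hA.conj_mem' a ha t, ?_⟩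
        change a * (t * b * t⁻¹) * a⁻¹ = t * b' * t⁻¹ at e
        calc t⁻¹ * a * t * b * (t⁻¹ * a * t)⁻¹ = t⁻¹ * (a * (t * b * t⁻¹) * a⁻¹) * t := by group
          _ = b' := by rw [e]; group))
    (fun s t => Equiv.ext fun q => by
      induction q using Quotient.inductionOn with
      | h b => exact congrArg (Quotient.mk _) (Subtype.ext (show s * t * b * (s * t)⁻¹ = _ by
          show s * t * b * (s * t)⁻¹ = s * (t * b * t⁻¹) * s⁻¹
          group)))

theorem clsPerm_mk [A.Normal] [B.Normal] (t : G) (b : (B : Set G)) :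
    clsPerm t (Quotient.mk (Setoid.comap Subtype.val (conjSetoid A)) b) = Quotient.mk _
      ⟨t * b * t⁻¹, (inferInstance : B.Normal).conj_mem _ b.2 t⟩ := rfl

/-- As many fixed points as fixed classes. -/
theorem card_fixed_pts [A.Normal] [B.Normal] (hBA : B ≤ A) (hG : (Nat.card G : k) ≠ 0) {p : ℕ} (hp : p.Prime)
    (hP : IsPGroup p G) (t : G) :
    Nat.card {φ : Pts k A B // act t φ = φ} = Nat.card {q : Cls A (B : Set G) // clsPerm t q = q} := by
  classical
  have := finite_pts (k := k) (A := A) hBA hG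
  obtain ⟨L₁, hL₁⟩ := exists_funEquiv (k := k) (A := A) (S := (B : Set G))
    fun a _ b hb => (inferInstance : B.Normal).conj_mem b hb a
  let π : G →* Equiv.Perm (Pts k A B) := MonoidHom.mk'
    (fun s => { toFun := act s⁻¹, invFun := act s,
                left_inv := fun φ => by rw [← act_mul, inv_mul_cancel, act_one],
                right_inv := fun φ => by rw [← act_mul, mul_inv_cancel, act_one] })
    (fun s t => Equiv.ext fun φ => by
      show act (s * t)⁻¹ φ = act s⁻¹ (act t⁻¹ φ)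
      rw [mul_inv_rev, act_mul])
  let ev : Zs k A B →ₗ[k] (Pts k A B → k) :=
    { toFun := fun c φ => φ c
      map_add' := fun c d => funext fun φ => map_add φ c d
      map_smul' := fun r c => funext fun φ => map_smul φ r c }
  let j : W k A (B : Set G) ≃ₗ[k] Zs k A B :=
    { toFun := fun c => ⟨c.1, c.2⟩, invFun := fun c => ⟨c.1, c.2⟩, left_inv := fun c => rfl,
      right_inv := fun c => rfl, map_add' := fun _ _ => rfl, map_smul' := fun _ _ => rfl }
  let L := (L₁.trans j).trans (LinearEquiv.ofBijective ev (pts_bijective hBA hG))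
  obtain ⟨N, hN⟩ := hP t
  have h := Count.card_fixed_eq (clsPerm (A := A) (B := B) t) (π t) hp (N := N)
    (by rw [← map_pow, hN, map_one]) (by rw [← map_pow, hN, map_one]) L (fun f φ => by
      show φ (j (L₁ _)) = act t⁻¹ φ (j (L₁ f))
      rw [act_apply]
      congr 1
      apply Subtype.ext
      rw [coe_cjHom]
      show ((L₁ fun x => f (clsPerm t x)) : MonoidAlgebra k G) = cj t⁻¹ (L₁ f : MonoidAlgebra k G)
      rw [hL₁, hL₁]
      ext g
      rw [coeff_cj, inv_inv]
      by_cases hg : g ∈ B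
      · exact (coeff_ofFun _ ⟨g, hg⟩).trans (coeff_ofFun f ⟨_, (inferInstance : B.Normal).conj_mem g hg t⟩).symm
      · rw [coeff_ofFun_of_notMem _ (show g ∉ (B : Set G) from hg), coeff_ofFun_of_notMem]
        intro h'
        have := (inferInstance : B.Normal).conj_mem' _ h' t
        rw [show t⁻¹ * (t * g * t⁻¹) * t = g by group] at this
        exact hg this)
  rw [h]
  refine Nat.card_congr (Equiv.subtypeEquivRight fun φ => ?_)
  show act t φ = φ ↔ act t⁻¹ φ = φ
  refine ⟨fun h' => (stab φ).inv_mem h', fun h' => ?_⟩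
  have h2 := (stab φ).inv_mem (show t⁻¹ ∈ stab φ from h')
  rwa [inv_inv] at h2

/-- Burnside counting for a coset of the acting group. -/
theorem card_pairs (A : Subgroup G) (S : Set G) (hS : ∀ a ∈ A, ∀ s ∈ S, a * s * a⁻¹ ∈ S) (t : G)
    (ht : ∀ c ∈ A, t⁻¹ * c * t ∈ A) :
    Nat.card (Σ s : S, {a : A // t * a * s * (t * a)⁻¹ = s}) =
      Nat.card A * Nat.card {q : Cls A S // ∃ s : S, Quotient.mk _ s = q ∧ ∃ a ∈ A, t * a * s * (t * a)⁻¹ = s} := by
  classical
  have := Fintype.ofFinite {q : Cls A S // ∃ s : S, Quotient.mk _ s = q ∧ ∃ a ∈ A, t * a * s * (t * a)⁻¹ = s}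
  let q : (Σ s : S, {a : A // t * a * s * (t * a)⁻¹ = s}) →
      {q : Cls A S // ∃ s : S, Quotient.mk _ s = q ∧ ∃ a ∈ A, t * a * s * (t * a)⁻¹ = s} :=
    fun x => ⟨Quotient.mk _ x.1, x.1, rfl, x.2.1, x.2.1.2, x.2.2⟩
  have hfib : ∀ y, Nat.card {x // q x = y} = Nat.card A := by
    rintro ⟨y, s₀, rfl, hy⟩
    have hrel : ∀ b : A, (⟨b * s₀ * (b : G)⁻¹, hS b b.2 s₀ s₀.2⟩ : S) ∈
        {s : S | Quotient.mk (Setoid.comap Subtype.val (conjSetoid A)) s = Quotient.mk _ s₀} := fun b =>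
      Quotient.sound (show conjSetoid A _ _ from ⟨(b : G)⁻¹, inv_mem b.2, by
        show (b : G)⁻¹ * (b * s₀ * (b : G)⁻¹) * (b : G)⁻¹⁻¹ = s₀
        group⟩)
    -- choices for each element of the class
    have hch : ∀ s : S, Quotient.mk (Setoid.comap Subtype.val (conjSetoid A)) s = Quotient.mk _ s₀ →
        ∃ a₀ b₀ : A, t * a₀ * s * (t * a₀)⁻¹ = s ∧ (b₀ : G) * s₀ * (b₀ : G)⁻¹ = s := by
      intro s hs
      obtain ⟨b, hb, e⟩ : conjSetoid A (s₀ : G) (s : G) := Quotient.exact (a := s₀) (b := s) hs.symm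
      obtain ⟨a, ha, e'⟩ := hy
      -- transport the fixing element
      have hmem : (t⁻¹ * b * t) * a * b⁻¹ ∈ A → ∃ a₀ : A, t * a₀ * s * (t * a₀)⁻¹ = s := fun hm =>
        ⟨⟨_, hm⟩, by
          show t * (t⁻¹ * b * t * a * b⁻¹) * s * (t * (t⁻¹ * b * t * a * b⁻¹))⁻¹ = s
          calc t * (t⁻¹ * b * t * a * b⁻¹) * s * (t * (t⁻¹ * b * t * a * b⁻¹))⁻¹
              = b * (t * a * (b⁻¹ * s * b) * (t * a)⁻¹) * b⁻¹ := by group
            _ = b * (t * a * s₀ * (t * a)⁻¹) * b⁻¹ := by rw [← e]; group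
            _ = s := by rw [e', ← e]⟩
      obtain ⟨a₀, ha₀⟩ := hmem (A.mul_mem (A.mul_mem (ht b hb) ha) (A.inv_mem hb))
      exact ⟨a₀, ⟨b, hb⟩, ha₀, e⟩
    choose a₀ b₀ h1 h2 using hch
    refine Nat.card_congr
      { toFun := fun x =>
          (a₀ x.1.1 (congrArg Subtype.val x.2))⁻¹ * x.1.2.1 * b₀ x.1.1 (congrArg Subtype.val x.2)
        invFun := fun b => ⟨⟨⟨_, hS b b.2 s₀ s₀.2⟩,
          ⟨a₀ _ (hrel b) * (b * (b₀ _ (hrel b))⁻¹), ?_⟩⟩, Subtype.ext (hrel b)⟩
        left_inv := ?_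
        right_inv := ?_ }
    · have e1 := h1 _ (hrel b)
      have e2 := h2 _ (hrel b)
      simp only [Subgroup.coe_mul, Subgroup.coe_inv] at e1 e2 ⊢
      generalize (a₀ _ (hrel b) : G) = α at e1 ⊢
      generalize (b₀ _ (hrel b) : G) = β at e2 ⊢
      calc t * (α * ((b : G) * β⁻¹)) * (b * s₀ * (b : G)⁻¹) * (t * (α * ((b : G) * β⁻¹)))⁻¹
          = t * α * ((b : G) * (β⁻¹ * (b * s₀ * (b : G)⁻¹) * β) * (b : G)⁻¹) * (t * α)⁻¹ := by group
        _ = t * α * ((b : G) * s₀ * (b : G)⁻¹) * (t * α)⁻¹ := by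
            conv_lhs => rw [← e2]
            group
        _ = _ := e1
    · rintro ⟨⟨s, a, ha⟩, hx⟩
      have hs := congrArg Subtype.val hx
      have e1 := h1 s hs
      have e2 := h2 s hs
      have key : ((((a₀ s hs)⁻¹ * a * b₀ s hs : A)) : G) * s₀ * (((a₀ s hs)⁻¹ * a * b₀ s hs : A) : G)⁻¹ = s := by
        simp only [Subgroup.coe_mul, Subgroup.coe_inv]
        calc (a₀ s hs : G)⁻¹ * a * b₀ s hs * s₀ * ((a₀ s hs : G)⁻¹ * a * b₀ s hs)⁻¹
            = (a₀ s hs : G)⁻¹ * t⁻¹ * (t * a * ((b₀ s hs : G) * s₀ * (b₀ s hs : G)⁻¹) * (t * a)⁻¹) * (t * a₀ s hs) := by group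
          _ = (a₀ s hs : G)⁻¹ * t⁻¹ * s * (t * a₀ s hs) := by rw [e2, ha]
          _ = (a₀ s hs : G)⁻¹ * t⁻¹ * (t * a₀ s hs * s * (t * a₀ s hs)⁻¹) * (t * a₀ s hs) := by rw [e1]
          _ = s := by group
      refine Subtype.ext (Sigma.subtype_ext (Subtype.ext key) ?_)
      apply Subtype.ext
      have hb : ∀ (s' : S) (hs' : Quotient.mk _ s' = Quotient.mk _ s₀), s' = s →
          (a₀ s' hs' = a₀ s hs) ∧ (b₀ s' hs' = b₀ s hs) := by
        rintro _ _ rfl; exact ⟨rfl, rfl⟩
      obtain ⟨q1, q2⟩ := hb _ (hrel ((a₀ s hs)⁻¹ * a * b₀ s hs)) (Subtype.ext key)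
      show ((a₀ _ _ * (((a₀ s hs)⁻¹ * a * b₀ s hs) * (b₀ _ _)⁻¹) : A) : G) = (a : G)
      rw [q1, q2]
      group
    · intro b
      show (a₀ _ _)⁻¹ * (a₀ _ _ * (b * (b₀ _ _)⁻¹)) * b₀ _ _ = b
      group
  rw [← Nat.card_congr (Equiv.sigmaFiberEquiv q), Nat.card_sigma, Finset.sum_congr rfl (fun y _ => hfib y),
    Finset.sum_const, Finset.card_univ, smul_eq_mul, mul_comm, ← Nat.card_eq_fintype_card]

end CfsgLib.CaminaPair.Points
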