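import Cfsg.Agent.Lib.CaminaPair.Regular
import Mathlib.GroupTheory.Nilpotent
import Mathlib.GroupTheory.QuotientGroup.Basic

/-!
# The stabiliser of a nontrivial point is noncyclic
-/

set_option autoImplicit false
set_option linter.unusedSectionVars false

namespace CfsgLib.CaminaPair.Points

variable {k : Type*} [Field k] [IsAlgClosed k] {G : Type*} [Group G] [Finite G] {A B : Subgroup G}

theorem sum_mul_triv {A : Subgroup G} (φ : Pts k A A) (hφ : φ ≠ triv k A A) :
    ∃ sA : Zs k A A, φ sA = 0 ∧ ∀ h : G, h ∈ A → (sA : MonoidAlgebra k G).coeff h = 1 := by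
  classical
  have := Fintype.ofFinite G
  let c : MonoidAlgebra k G := MonoidAlgebra.ofCoeff
    (Finsupp.equivFunOnFinite.symm fun g => if g ∈ A then 1 else 0)
  have hc : ∀ g, c.coeff g = if g ∈ A then 1 else 0 := fun g => by simp [c]
  have hcm : c ∈ W k A (A : Set G) := ⟨fun g hg => by rw [hc, if_neg (show g ∉ A from hg)], commutes_of_coeff fun a ha g => by
    rw [hc, hc]
    by_cases hg : g ∈ A
    · rw [if_pos hg, if_pos (A.mul_mem (A.mul_mem ha hg) (A.inv_mem ha))]
    · rw [if_neg hg, if_neg]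
      intro h
      apply hg
      have := A.mul_mem (A.mul_mem (A.inv_mem ha) h) ha
      rwa [show a⁻¹ * (a * g * a⁻¹) * a = g by group] at this⟩
  refine ⟨⟨c, hcm⟩, ?_, fun h hh => (hc h).trans (if_pos hh)⟩
  by_contra hne
  refine hφ (AlgHom.ext fun d => ?_)
  -- `sA * d = aug d • sA`
  have hu : ∀ g ∈ A, c * u g = c := fun g hg => by
    ext x
    rw [coeff_mul_u, hc, hc]
    by_cases hx : x ∈ A
    · rw [if_pos hx, if_pos (A.mul_mem hx (A.inv_mem hg))]
    · rw [if_neg hx, if_neg]
      intro h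
      apply hx
      simpa using A.mul_mem h hg
  have h1 : c * (d : MonoidAlgebra k G) = (triv k A A d) • c := by
    have hd : (d : MonoidAlgebra k G) = ∑ g : G, (d : MonoidAlgebra k G).coeff g • u g := by
      ext x
      simp [u, Finsupp.single_apply, Finset.sum_ite_eq']
    have ht : triv k A A d = ∑ g : G, (d : MonoidAlgebra k G).coeff g := by
      show (MonoidAlgebra.lift k k G 1) (d : MonoidAlgebra k G) = _
      conv_lhs => rw [hd]
      simp only [map_sum, map_smul, lift_one_u, smul_eq_mul, mul_one]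
    rw [ht, Finset.sum_smul]
    conv_lhs => rw [hd]
    rw [Finset.mul_sum]
    refine Finset.sum_congr rfl fun g _ => ?_
    rw [mul_smul_comm]
    by_cases hg : g ∈ A
    · rw [hu g hg]
    · rw [d.2.1 g hg, zero_smul, zero_smul]
  have h2 : (⟨c, hcm⟩ : Zs k A A) * d = (triv k A A d) • ⟨c, hcm⟩ := Subtype.ext h1
  have h3 := congrArg φ h2
  rw [map_mul, map_smul, smul_eq_mul, mul_comm (triv k A A d)] at h3
  exact mul_left_cancel₀ hne h3

/-- The cyclic case. -/
theorem false_of_cyclic [hA : A.Normal] (hG : (Nat.card G : k) ≠ 0) {p : ℕ} (hp : p.Prime) (hP : IsPGroup p G)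
    (hpair : IsPair' A) (φ : Pts k A A) (hφ : φ ≠ triv k A A) (t : G) (htA : t ∉ A)
    (hT : stab φ ≤ A ⊔ Subgroup.zpowers t) (ht : t ∈ stab φ) : False := by
  classical
  have := Fintype.ofFinite G
  have := finite_pts (k := k) (A := A) le_rfl hG
  have := Fintype.ofFinite (Pts k A A)
  choose e he1 he2 he3 using fun ψ : Pts k A A => exists_idem le_rfl hG ψ
  have hsum : ∑ ψ, e ψ = 1 := by
    apply (pts_bijective le_rfl hG).1
    funext χ
    show χ (∑ ψ, e ψ) = χ 1
    rw [map_sum, map_one, Finset.sum_eq_single χ (fun ψ _ hψ => he2 ψ χ hψ.symm) (fun h => absurd (Finset.mem_univ χ) h)]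
    exact he1 χ
  have hA' : ∀ a ∈ A, a * t * a⁻¹ * t⁻¹ ∈ A := fun a ha => by
    rw [show a * t * a⁻¹ * t⁻¹ = a * (t * a⁻¹ * t⁻¹) by group]
    exact A.mul_mem ha (hA.conj_mem _ (A.inv_mem ha) t)
  have hcomm : ∀ w ∈ W k A (coset t A), ∀ ψ, (e ψ : MonoidAlgebra k G) * w = w * (e ψ : MonoidAlgebra k G) :=
    fun w hw ψ => (commute_of_supported hw fun g hg => (e ψ).2.1 g hg).eq.symm
  have hsupp : ∀ w ∈ W k A (coset t A), ∀ g ∉ A, (u t⁻¹ * w).coeff g = 0 := by
    intro w hw g hg
    rw [coeff_u_mul, inv_inv]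
    exact hw.1 _ fun h => hg (by
      have h' : t⁻¹ * (t * g) ∈ A := h
      rwa [inv_mul_cancel_left] at h')
  -- unfixed idempotents kill the coset
  have hkill : ∀ w ∈ W k A (coset t A), ∀ ψ, act t ψ ≠ ψ → w * (e ψ : MonoidAlgebra k G) = 0 := by
    intro w hw ψ hψ
    have h1 : (e ψ : MonoidAlgebra k G) * w = w * cj t⁻¹ (e ψ : MonoidAlgebra k G) := by
      conv_lhs => rw [show w = u t * (u t⁻¹ * w) by rw [← mul_assoc, u_mul_inv, one_mul]]
      have h2 := (commute_of_supported (cj_mem_Zs t⁻¹ (e ψ).2) (hsupp w hw)).eq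
      calc (e ψ : MonoidAlgebra k G) * (u t * (u t⁻¹ * w))
          = u t * (cj t⁻¹ (e ψ : MonoidAlgebra k G) * (u t⁻¹ * w)) := by
            rw [cj, inv_inv]
            simp only [mul_assoc]
            simp only [← mul_assoc (u t) (u t⁻¹), u_mul_inv, one_mul]
        _ = u t * ((u t⁻¹ * w) * cj t⁻¹ (e ψ : MonoidAlgebra k G)) := by rw [h2]
        _ = w * cj t⁻¹ (e ψ : MonoidAlgebra k G) := by rw [← mul_assoc (u t), ← mul_assoc (u t), u_mul_inv, one_mul]
    have h0 : cjHom t⁻¹ (e ψ) * e ψ = 0 := by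
      rw [he3 ψ, ← act_apply]
      have : act t⁻¹ ψ ≠ ψ := fun h => hψ (by
        have h2 := (stab ψ).inv_mem (show t⁻¹ ∈ stab ψ from h)
        rwa [inv_inv] at h2)
      rw [he2 ψ _ this, zero_smul]
    have hee : (e ψ : MonoidAlgebra k G) * e ψ = e ψ := congrArg Subtype.val (idem_mul_self (he1 ψ) (he3 ψ))
    calc w * (e ψ : MonoidAlgebra k G) = w * e ψ * e ψ := by rw [mul_assoc, hee]
      _ = w * cj t⁻¹ (e ψ : MonoidAlgebra k G) * e ψ := by rw [← hcomm w hw ψ, h1]
      _ = 0 := by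
        rw [mul_assoc, show cj t⁻¹ (e ψ : MonoidAlgebra k G) * e ψ = ((cjHom t⁻¹ (e ψ) * e ψ : Zs k A A) : MonoidAlgebra k G) from rfl,
          h0, ZeroMemClass.coe_zero, mul_zero]
  -- a nonzero element over `φ`
  obtain ⟨z₀, hz₀, hz₀e⟩ : ∃ w ∈ W k A (coset t A), w * (e φ : MonoidAlgebra k G) ≠ 0 := by
    by_contra h
    push Not at h
    let I := {ψ : Pts k A A // act t ψ = ψ ∧ ψ ≠ φ}
    have hone : ∀ i : I, ∃ v, ∀ w ∈ W k A (coset t A), w * (e i.1 : MonoidAlgebra k G) ∈ Submodule.span k {v} := by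
      intro i
      by_cases hz : ∃ w ∈ W k A (coset t A), w * (e i.1 : MonoidAlgebra k G) ≠ 0
      · obtain ⟨w₀, hw₀, hw₀e⟩ := hz
        refine ⟨w₀ * e i.1, fun w hw => ?_⟩
        have hm : ∀ v ∈ W k A (coset t A), v * (e i.1 : MonoidAlgebra k G) ∈ W k A (coset t A) := fun v hv =>
          mul_mem_W hv (e i.1).2 fun g (hg : t⁻¹ * g ∈ A) b hb => show t⁻¹ * (g * b) ∈ A by
            rw [← mul_assoc]; exact A.mul_mem hg hb
        have hee : (e i.1 : MonoidAlgebra k G) * e i.1 = e i.1 :=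
          congrArg Subtype.val (idem_mul_self (he1 i.1) (he3 i.1))
        obtain ⟨r, hr⟩ := line le_rfl hG t (he3 i.1) hA' (hm w₀ hw₀) (hm w hw) (by rw [mul_assoc, hee])
          (by rw [mul_assoc, hee]) hw₀e
        rw [hr]
        exact Submodule.smul_mem _ _ (Submodule.mem_span_singleton_self _)
      · push Not at hz
        exact ⟨0, fun w hw => by rw [hz w hw]; exact Submodule.zero_mem _⟩
    choose v hv using hone
    have hle : W k A (coset t A) ≤ Submodule.span k (Set.range v) := by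
      intro w hw
      have h1 : w = ∑ ψ, w * (e ψ : MonoidAlgebra k G) := by
        rw [← Finset.mul_sum, ← AddSubmonoidClass.coe_finsetSum, hsum, OneMemClass.coe_one, mul_one]
      rw [h1]
      refine Submodule.sum_mem _ fun ψ _ => ?_
      by_cases h1 : act t ψ = ψ
      · by_cases h2 : ψ = φ
        · subst h2; rw [h w hw]; exact Submodule.zero_mem _
        · exact Submodule.span_mono (Set.singleton_subset_iff.2 (Set.mem_range_self (⟨ψ, h1, h2⟩ : I))) (hv ⟨ψ, h1, h2⟩ w hw)
      · rw [hkill w hw ψ h1]; exact Submodule.zero_mem _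
    have : FiniteDimensional k (MonoidAlgebra k G) := Module.Finite.of_basis (MonoidAlgebra.basis G k)
    have h1 := (Submodule.finrank_mono hle).trans (finrank_range_le_card v)
    rw [finrank_coset hG hp hP, Nat.card_eq_fintype_card] at h1
    have h2 : Fintype.card I < Fintype.card {ψ : Pts k A A // act t ψ = ψ} :=
      Fintype.card_lt_of_injective_of_notMem (fun i : I => (⟨i.1, i.2.1⟩ : {ψ : Pts k A A // act t ψ = ψ}))
        (fun i j hij => Subtype.ext (congrArg (fun x : {ψ : Pts k A A // act t ψ = ψ} => x.1) hij))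
        (b := ⟨φ, ht⟩) fun ⟨i, hi⟩ => i.2.2 (congrArg (fun x : {ψ : Pts k A A // act t ψ = ψ} => x.1) hi)
    omega
  set E : MonoidAlgebra k G := (e φ : MonoidAlgebra k G) with hE
  set z := z₀ * E with hz
  have hEE : E * E = E := congrArg Subtype.val (idem_mul_self (he1 φ) (he3 φ))
  have hzE : z * E = z := by rw [hz, mul_assoc, hEE]
  have hzW : z ∈ W k A (coset t A) := mul_mem_W hz₀ (e φ).2 fun g (hg : t⁻¹ * g ∈ A) b hb =>
    show t⁻¹ * (g * b) ∈ A by rw [← mul_assoc]; exact A.mul_mem hg hb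
  obtain ⟨d, hd, α, hα, hdE, hdz, hzd⟩ := exists_quasi_inverse le_rfl hG t (he3 φ) (fun g hg => hg) hA' hzW hzE hz₀e
  have hEt : E * u t = u t * E := by
    have h1 : cjHom t (e φ) = e φ := by
      apply (pts_bijective le_rfl hG).1
      funext ψ
      show act t ψ (e φ) = ψ (e φ)
      by_cases h : ψ = φ
      · subst h; rw [mem_stab.1 ht]
      · rw [he2 φ ψ h, he2 φ]
        intro h'
        apply h
        have h2 : act t ψ = act t φ := h'.trans (mem_stab.1 ht).symm
        have h3 := congrArg (act t⁻¹) h2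
        rwa [← act_mul, ← act_mul, mul_inv_cancel, act_one, act_one] at h3
    exact ((cj_eq_iff t E).1 (congrArg Subtype.val h1)).symm
  -- `z` commutes with `t`
  have hzt : cj t z = z := by
    rw [cj_eq_iff]
    have hc' : ∀ g ∉ A, (d * u t).coeff g = 0 := fun g hg => by
      rw [coeff_mul_u]
      exact hd.1 _ fun h => hg (by
        have h' : g * t⁻¹ * t ∈ A := h
        rwa [inv_mul_cancel_right] at h')
    have hzc := (commute_of_supported hzW hc').eq
    have hEz : E * z = z := by rw [hE, hcomm z hzW φ, hzE]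
    have h1 : α • (E * u t) = d * u t * z := by
      rw [← hzc, ← mul_assoc, hzd, smul_mul_assoc]
    have h2 : α • (z * u t) = α • (u t * z) := by
      calc α • (z * u t) = z * (α • (E * u t)) := by rw [mul_smul_comm, ← mul_assoc, hzE]
        _ = z * d * (u t * z) := by rw [h1]; simp only [mul_assoc]
        _ = α • (E * (u t * z)) := by rw [hzd, smul_mul_assoc]
        _ = α • (u t * z) := by rw [← mul_assoc, hEt, mul_assoc, hEz]
    exact (smul_right_injective _ hα h2).symm
  have hzT : ∀ y ∈ stab φ, cj y z = z := by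
    let S : Subgroup G :=
      { carrier := {y | cj y z = z}
        one_mem' := cj_one z
        mul_mem' := fun {a b} (ha : cj a z = z) (hb : cj b z = z) => show cj (a * b) z = z by
          rw [← cj_cj, hb, ha]
        inv_mem' := fun {a} (ha : cj a z = z) => show cj a⁻¹ z = z by
          conv_lhs => rw [← ha, cj_cj, inv_mul_cancel, cj_one] }
    have hS : A ⊔ Subgroup.zpowers t ≤ S :=
      sup_le (fun a ha => (cj_eq_iff a z).2 (hzW.2 a ha)) (Subgroup.zpowers_le.2 hzt)
    exact fun y hy => hS (hT hy)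
  -- average
  have := Fintype.ofFinite (modCent A t)
  set Z : MonoidAlgebra k G := ∑ y : modCent A t, cj (y : G) z with hZ
  have hmem : ∀ y : modCent A t, cj (y : G) z ∈ W k A (coset t A) := by
    intro y
    refine cj_mem_W (normal_conj A _) (fun g (hg : t⁻¹ * ((y : G)⁻¹ * g * y) ∈ A) => ?_) hzW
    show t⁻¹ * g ∈ A
    have h1 := mem_modCent.1 y.2
    have h2 := hA.conj_mem _ hg y
    rw [show t⁻¹ * g = t⁻¹ * ((y : G) * t * (y : G)⁻¹) * ((y : G) * (t⁻¹ * ((y : G)⁻¹ * g * y)) * (y : G)⁻¹) by group]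
    exact A.mul_mem h1 h2
  have hZW : Z ∈ W k A (coset t A) := Submodule.sum_mem _ fun y _ => hmem y
  have hZinv : ∀ c ∈ modCent A t, cj c Z = Z := by
    intro c hc
    rw [hZ, cj, Finset.mul_sum, Finset.sum_mul]
    refine Fintype.sum_equiv (Equiv.mulLeft ⟨c, hc⟩) _ _ fun y => ?_
    show u c * cj (y : G) z * u c⁻¹ = cj (c * (y : G)) z
    rw [← cj_cj]; rfl
  obtain ⟨sA, hsA, hsA1⟩ := sum_mul_triv φ hφ
  have hZeq : Z = Z.coeff t • (u t * (sA : MonoidAlgebra k G)) := by
    ext g
    rw [MonoidAlgebra.coeff_smul, Finsupp.smul_apply, coeff_u_mul, smul_eq_mul]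
    by_cases hg : t⁻¹ * g ∈ A
    · rw [hsA1 _ hg, mul_one]
      obtain ⟨c, hc⟩ := isConj_iff.1 (hpair t htA _ hg)
      rw [mul_inv_cancel_left] at hc
      have hcm : c ∈ modCent A t := by rw [mem_modCent, hc]; exact hg
      conv_lhs => rw [← hZinv c hcm, coeff_cj, ← hc]
      rw [show c⁻¹ * (c * t * c⁻¹) * c = t by group]
    · rw [hZW.1 g hg, sA.2.1 _ hg, mul_zero]
  have hZE : Z * E = 0 := by
    rw [hZeq, smul_mul_assoc, mul_assoc]
    have h := congrArg Subtype.val (he3 φ sA)
    rw [hsA, zero_smul] at h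
    change (sA : MonoidAlgebra k G) * E = 0 at h
    rw [h, mul_zero, smul_zero]
  have hZE2 : Z * E = (Finset.univ.filter fun y : modCent A t => (y : G) ∈ stab φ).card • z := by
    rw [hZ, Finset.sum_mul, ← Finset.sum_const, Finset.sum_filter]
    refine Finset.sum_congr rfl fun y _ => ?_
    have h1 : cj (y : G) z * E = cj (y : G) z * ((cjHom (y : G) (e φ) * e φ : Zs k A A) : MonoidAlgebra k G) := by
      conv_lhs => rw [← hzE, cj_mul, mul_assoc]
      rfl
    rw [h1, he3 φ, ← act_apply]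
    split_ifs with hy
    · rw [mem_stab.1 hy, he1, one_smul, hzT _ hy, ← hE, hzE]
    · rw [he2 φ _ (fun h => hy h), zero_smul, ZeroMemClass.coe_zero, mul_zero]
  rw [hZE, ← Nat.cast_smul_eq_nsmul k] at hZE2
  have h3 : ((Finset.univ.filter fun y : modCent A t => (y : G) ∈ stab φ).card : k) ≠ 0 := by
    have h4 : (Finset.univ.filter fun y : modCent A t => (y : G) ∈ stab φ).card =
        Nat.card ((stab φ).subgroupOf (modCent A t)) := by
      rw [Nat.card_eq_fintype_card, ← Fintype.card_subtype]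
      exact Fintype.card_congr (Equiv.refl _)
    rw [h4]
    intro h5
    apply hG
    obtain ⟨m, hm⟩ := (Subgroup.card_subgroup_dvd_card ((stab φ).subgroupOf (modCent A t))).trans
      (modCent A t).card_subgroup_dvd_card
    rw [hm, Nat.cast_mul, h5, zero_mul]
  exact hz₀e ((smul_eq_zero.1 hZE2.symm).resolve_left h3)

end CfsgLib.CaminaPair.Points
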